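import Groth.Agent.L05.Kosz.Basic
import Mathlib.RingTheory.Filtration
import Mathlib.Algebra.Group.ForwardDiff
import Mathlib.Analysis.SpecialFunctions.Choose
import Mathlib.Analysis.Asymptotics.SpecificAsymptotics
import Mathlib.Algebra.BigOperators.Field
import Mathlib.Topology.Algebra.InfiniteSum.Real

/-!
# The Samuel function and the Euler characteristic of the Koszul complex
-/

set_option autoImplicit false
set_option linter.style.haveILetI false
set_option backward.isDefEq.respectTransparency.types false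

universe u

open CategoryTheory CategoryTheory.Limits CochainComplex CohIII Filter Topology

namespace Groth.L05.Kosz

open Groth.L04.Koszul
open Groth.L28.Kun (Z cl cl_surjective cl_eq_zero_iff homologyMap_cl d_mem_Z)

variable {A : Type u} [CommRing A] {M : Type u} [AddCommGroup M] [Module A M]

theorem map_mem_smul_top {X Y : Type u} [AddCommGroup X] [Module A X] [AddCommGroup Y] [Module A Y]
    (g : X →ₗ[A] Y) (J : Ideal A) {x : X} (hx : x ∈ J • (⊤ : Submodule A X)) : g x ∈ J • (⊤ : Submodule A Y) := by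
  have h := Submodule.mem_map_of_mem (f := g) hx
  rw [Submodule.map_smul''] at h
  exact Submodule.smul_mono le_rfl le_top h

theorem length_prod_quot (J : Ideal A) (X Y : Type u) [AddCommGroup X] [Module A X] [AddCommGroup Y] [Module A Y] :
    Module.length A ((X × Y) ⧸ (J • ⊤ : Submodule A (X × Y))) =
      Module.length A (X ⧸ (J • ⊤ : Submodule A X)) + Module.length A (Y ⧸ (J • ⊤ : Submodule A Y)) := by
  rw [← Module.length_prod]
  let g : (X × Y) →ₗ[A] (X ⧸ (J • ⊤ : Submodule A X)) × (Y ⧸ (J • ⊤ : Submodule A Y)) :=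
    LinearMap.prodMap (Submodule.mkQ _) (Submodule.mkQ _)
  have hg : Function.Surjective g := fun z => by
    obtain ⟨a, ha⟩ := Submodule.mkQ_surjective _ z.1
    obtain ⟨b, hb⟩ := Submodule.mkQ_surjective _ z.2
    exact ⟨(a, b), Prod.ext ha hb⟩
  have hker : LinearMap.ker g = (J • ⊤ : Submodule A (X × Y)) := by
    ext ⟨a, b⟩
    constructor
    · intro h
      have ha : a ∈ (J • ⊤ : Submodule A X) := (Submodule.Quotient.mk_eq_zero _).mp (congrArg Prod.fst h)
      have hb : b ∈ (J • ⊤ : Submodule A Y) := (Submodule.Quotient.mk_eq_zero _).mp (congrArg Prod.snd h)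
      have := add_mem (map_mem_smul_top (LinearMap.inl A X Y) J ha) (map_mem_smul_top (LinearMap.inr A X Y) J hb)
      simpa using this
    · intro h
      exact Prod.ext ((Submodule.Quotient.mk_eq_zero _).mpr (map_mem_smul_top (LinearMap.fst A X Y) J h))
        ((Submodule.Quotient.mk_eq_zero _).mpr (map_mem_smul_top (LinearMap.snd A X Y) J h))
  exact ((Submodule.quotEquivOfEq _ _ hker.symm).trans (g.quotKerEquivOfSurjective hg)).length_eq

variable (M) in
/-- The terms of a cone are products. -/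
theorem exists_consEquiv (f : A) (fs : List A) (p q : ℤ) (hpq : p + 1 = q) :
    Nonempty (((koszulCx (ModuleCat.of A M) fs).X q × (koszulCx (ModuleCat.of A M) fs).X p) ≃ₗ[A]
      (koszulCx (ModuleCat.of A M) (f :: fs)).X p) := by
  refine ⟨LinearEquiv.ofBijective
    { toFun := fun z => cmk (stepHom (ModuleCat.of A M) f fs) p q hpq z.1 z.2
      map_add' := fun z w => cmk_add _ hpq _ _ _ _
      map_smul' := fun a z => (smul_cmk _ hpq a z.1 z.2).symm } ⟨?_, ?_⟩⟩
  · intro z w h
    obtain ⟨h1, h2⟩ := cmk_inj _ hpq h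
    exact Prod.ext h1 h2
  · intro z
    obtain ⟨a, b, rfl⟩ := exists_cmk (stepHom (ModuleCat.of A M) f fs) hpq z
    exact ⟨(a, b), rfl⟩

theorem length_quot_equiv (J : Ideal A) {X Y : Type u} [AddCommGroup X] [Module A X] [AddCommGroup Y] [Module A Y]
    (e : X ≃ₗ[A] Y) : Module.length A (X ⧸ (J • ⊤ : Submodule A X)) = Module.length A (Y ⧸ (J • ⊤ : Submodule A Y)) :=
  (Submodule.Quotient.equiv _ _ e (by
    rw [Submodule.map_smul'', Submodule.map_top, LinearMap.range_eq_top.mpr e.surjective])).length_eq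

theorem length_X_quot (J : Ideal A) : ∀ (fs : List A) (i : ℕ),
    Module.length A ((koszulCx (ModuleCat.of A M) fs).X (-(i : ℤ)) ⧸ (J • ⊤ : Submodule A ((koszulCx (ModuleCat.of A M) fs).X (-(i : ℤ))))) =
      (fs.length.choose i : ℕ∞) * Module.length A (M ⧸ (J • ⊤ : Submodule A M)) := by
  intro fs
  induction fs with
  | nil =>
    intro i
    rcases i with _ | i
    · rw [List.length_nil, Nat.choose_zero_right, Nat.cast_one, one_mul]
      exact length_quot_equiv J (HomologicalComplex.singleObjXIsoOfEq (ComplexShape.up ℤ) (0 : ℤ) (ModuleCat.of A M) _ (by simp)).toLinearEquiv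
    · haveI := ModuleCat.isZero_iff_subsingleton.1 (isZero_X (ModuleCat.of A M) [] (-((i + 1 : ℕ) : ℤ)) (Or.inr (by simp only [List.length_nil]; omega)))
      rw [List.length_nil, Nat.choose_zero_succ, Nat.cast_zero, zero_mul, Module.length_eq_zero]
  | cons f fs ih =>
    intro i
    rcases i with _ | i
    · obtain ⟨e⟩ := exists_consEquiv M f fs (-((0 : ℕ) : ℤ)) 1 (by norm_num)
      rw [← length_quot_equiv J e, length_prod_quot]
      haveI := ModuleCat.isZero_iff_subsingleton.1 (isZero_X (ModuleCat.of A M) fs 1 (Or.inl one_pos))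
      rw [Module.length_eq_zero, zero_add, ih, Nat.choose_zero_right, Nat.choose_zero_right]
    · obtain ⟨e⟩ := exists_consEquiv M f fs (-((i + 1 : ℕ) : ℤ)) (-(i : ℤ)) (by omega)
      rw [← length_quot_equiv J e, length_prod_quot, ih, ih, List.length_cons, Nat.choose_succ_succ, Nat.cast_add, add_mul]

/-- The differential is zero modulo an ideal containing the sequence. -/
theorem d_mem_smul_top (I : Ideal A) : ∀ (fs : List A), (∀ f ∈ fs, f ∈ I) → ∀ (p q : ℤ) (x : (koszulCx (ModuleCat.of A M) fs).X p),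
    (koszulCx (ModuleCat.of A M) fs).d p q x ∈ I • (⊤ : Submodule A ((koszulCx (ModuleCat.of A M) fs).X q)) := by
  intro fs
  induction fs with
  | nil =>
    intro _ p q x
    have h : (koszulCx (ModuleCat.of A M) ([] : List A)).d p q = 0 := rfl
    rw [h]
    exact zero_mem _
  | cons f fs ih =>
    intro hfs p q x
    by_cases hpq : p + 1 = q
    · subst hpq
      obtain ⟨a, b, rfl⟩ := exists_cmk (stepHom (ModuleCat.of A M) f fs) (rfl : p + 1 = p + 1) x
      change (mappingCone (stepHom (ModuleCat.of A M) f fs)).d p (p + 1) (cmk _ p (p + 1) rfl a b) ∈ _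
      rw [d_cmk (stepHom (ModuleCat.of A M) f fs) (rfl : p + 1 = p + 1) (rfl : p + 1 + 1 = p + 1 + 1)]
      have h1 := ih (fun g hg => hfs g (List.mem_cons_of_mem _ hg))
      let g : ((koszulCx (ModuleCat.of A M) fs).X (p + 1 + 1) × (koszulCx (ModuleCat.of A M) fs).X (p + 1)) →ₗ[A]
          (koszulCx (ModuleCat.of A M) (f :: fs)).X (p + 1) :=
        { toFun := fun z => cmk (stepHom (ModuleCat.of A M) f fs) (p + 1) (p + 1 + 1) rfl z.1 z.2
          map_add' := fun z w => cmk_add _ rfl _ _ _ _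
          map_smul' := fun c z => (smul_cmk _ rfl c z.1 z.2).symm }
      refine map_mem_smul_top g I (x := (_, _)) ?_
      have := add_mem (map_mem_smul_top (LinearMap.inl A _ ((koszulCx (ModuleCat.of A M) fs).X (p + 1))) I (neg_mem (h1 (p + 1) (p + 1 + 1) a)))
        (map_mem_smul_top (LinearMap.inr A ((koszulCx (ModuleCat.of A M) fs).X (p + 1 + 1)) _) I
          (add_mem (show f • a ∈ I • (⊤ : Submodule A ((koszulCx (ModuleCat.of A M) fs).X (p + 1))) from
            Submodule.smul_mem_smul (hfs f List.mem_cons_self) trivial) (h1 p (p + 1) b)))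
      simpa using this
    · have h : (koszulCx (ModuleCat.of A M) (f :: fs)).d p q = 0 := HomologicalComplex.shape _ _ _ hpq
      rw [h]
      exact zero_mem _

theorem d_mem_pow (I : Ideal A) (fs : List A) (hfs : ∀ f ∈ fs, f ∈ I) (m : ℕ) (p q : ℤ)
    (x : (koszulCx (ModuleCat.of A M) fs).X p) (hx : x ∈ I ^ m • (⊤ : Submodule A ((koszulCx (ModuleCat.of A M) fs).X p))) :
    (koszulCx (ModuleCat.of A M) fs).d p q x ∈ I ^ (m + 1) • (⊤ : Submodule A ((koszulCx (ModuleCat.of A M) fs).X q)) := by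
  have h := Submodule.mem_map_of_mem (f := ((koszulCx (ModuleCat.of A M) fs).d p q).hom) hx
  rw [Submodule.map_smul'', Submodule.map_top] at h
  rw [pow_succ, Submodule.mul_smul]
  refine Submodule.smul_mono le_rfl ?_ h
  rintro _ ⟨y, rfl⟩
  exact d_mem_smul_top I fs hfs p q y

variable [IsNoetherianRing A] [Module.Finite A M]

/-- Artin–Rees: cycles in a high power are boundaries of elements in one power less. -/
theorem exists_acyclic_at (fs : List A) (p : ℤ) :
    ∃ N, ∀ m, N ≤ m → ∀ z : (koszulCx (ModuleCat.of A M) fs).X p, z ∈ Z (koszulCx (ModuleCat.of A M) fs) p →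
      z ∈ Ideal.ofList fs ^ (m + 1) • (⊤ : Submodule A ((koszulCx (ModuleCat.of A M) fs).X p)) →
      ∃ w, w ∈ Ideal.ofList fs ^ m • (⊤ : Submodule A ((koszulCx (ModuleCat.of A M) fs).X (p - 1))) ∧
        (koszulCx (ModuleCat.of A M) fs).d (p - 1) p w = z := by
  haveI := finite_X (M := M) fs p
  let K := koszulCx (ModuleCat.of A M) fs
  let I := Ideal.ofList fs
  obtain ⟨c, hc⟩ := I.exists_pow_inf_eq_pow_smul (Z K p)
  refine ⟨c, fun m hm z hz hzI => ?_⟩
  have hmem : z ∈ I ^ (m + 1) • ⊤ ⊓ Z K p := ⟨hzI, hz⟩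
  rw [hc (m + 1) (by omega), show m + 1 - c = (m - c) + 1 by omega, pow_succ', Submodule.mul_smul, ← hc m hm] at hmem
  refine Submodule.smul_induction_on hmem (fun a ha y hy => ?_) (fun x y hx hy => ?_)
  · obtain ⟨h⟩ := ofList_le_nullIdeal (ModuleCat.of A M) fs ha
    refine ⟨h.hom p (p - 1) y, map_mem_smul_top (h.hom p (p - 1)).hom _ hy.1, ?_⟩
    have e := homotopy_apply h p y
    rw [show K.d p (p + 1) y = 0 from hy.2, map_zero, add_zero] at e
    exact e.symm
  · obtain ⟨w, hw, hw'⟩ := hx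
    obtain ⟨v, hv, hv'⟩ := hy
    exact ⟨w + v, add_mem hw hv, by rw [map_add, hw', hv']⟩

theorem exists_acyclic (fs : List A) :
    ∃ N, ∀ m, N ≤ m → ∀ (p : ℤ) (z : (koszulCx (ModuleCat.of A M) fs).X p), z ∈ Z (koszulCx (ModuleCat.of A M) fs) p →
      z ∈ Ideal.ofList fs ^ (m + 1) • (⊤ : Submodule A ((koszulCx (ModuleCat.of A M) fs).X p)) →
      ∃ w, w ∈ Ideal.ofList fs ^ m • (⊤ : Submodule A ((koszulCx (ModuleCat.of A M) fs).X (p - 1))) ∧
        (koszulCx (ModuleCat.of A M) fs).d (p - 1) p w = z := by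
  choose N hN using fun p => exists_acyclic_at (M := M) fs p
  refine ⟨(Finset.Icc (-(fs.length : ℤ)) 0).sup N, fun m hm p z hz hzI => ?_⟩
  by_cases hp : p ∈ Finset.Icc (-(fs.length : ℤ)) 0
  · exact hN p m ((Finset.le_sup hp).trans hm) z hz hzI
  · haveI := ModuleCat.isZero_iff_subsingleton.1 (isZero_X (ModuleCat.of A M) fs p (by rw [Finset.mem_Icc] at hp; omega))
    exact ⟨0, zero_mem _, by rw [map_zero, Subsingleton.elim z 0]⟩

/-- The filtration exponent. -/
def ex (n : ℕ) (p : ℤ) : ℕ := ((n : ℤ) + p).toNat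

/-- Boundaries modulo the filtration. -/
noncomputable def bLen (fs : List A) (M : Type u) [AddCommGroup M] [Module A M] (n : ℕ) (i j : ℤ) : ℕ∞ :=
  Module.length A (LinearMap.range ((koszulCx (ModuleCat.of A M) fs).d i j).hom ⧸
    Submodule.comap (LinearMap.range ((koszulCx (ModuleCat.of A M) fs).d i j).hom).subtype
      (Ideal.ofList fs ^ ex n j • (⊤ : Submodule A ((koszulCx (ModuleCat.of A M) fs).X j))))

theorem qLen_eq (fs : List A) (n : ℕ) (N : ℕ)
    (hN : ∀ m, N ≤ m → ∀ (p : ℤ) (z : (koszulCx (ModuleCat.of A M) fs).X p), z ∈ Z (koszulCx (ModuleCat.of A M) fs) p →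
      z ∈ Ideal.ofList fs ^ (m + 1) • (⊤ : Submodule A ((koszulCx (ModuleCat.of A M) fs).X p)) →
      ∃ w, w ∈ Ideal.ofList fs ^ m • (⊤ : Submodule A ((koszulCx (ModuleCat.of A M) fs).X (p - 1))) ∧
        (koszulCx (ModuleCat.of A M) fs).d (p - 1) p w = z)
    (j : ℤ) (hn : (N : ℤ) + 1 ≤ n + j) :
    Module.length A ((koszulCx (ModuleCat.of A M) fs).X j ⧸
      (Ideal.ofList fs ^ ex n j • ⊤ : Submodule A ((koszulCx (ModuleCat.of A M) fs).X j))) =
    Module.length A (H fs M j) + bLen fs M n (j - 1) j + bLen fs M n j (j + 1) := by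
  let K := koszulCx (ModuleCat.of A M) fs
  let F : ∀ p : ℤ, Submodule A (K.X p) := fun p => Ideal.ofList fs ^ ex n p • ⊤
  let B := LinearMap.range (K.d j (j + 1)).hom
  let ψ : K.X j →ₗ[A] B ⧸ Submodule.comap B.subtype (F (j + 1)) :=
    (Submodule.mkQ _).comp (K.d j (j + 1)).hom.rangeRestrict
  have hψ : ∀ x, ψ x = 0 ↔ K.d j (j + 1) x ∈ F (j + 1) := fun x => Submodule.Quotient.mk_eq_zero _
  have hexj : ex n (j + 1) = ex n j + 1 := by simp only [ex]; omega
  have hexj' : ex n j = ex n (j - 1) + 1 := by simp only [ex]; omega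
  let α : Z K j →ₗ[A] K.X j ⧸ F j := (F j).mkQ.comp (Z K j).subtype
  let β : (K.X j ⧸ F j) →ₗ[A] B ⧸ Submodule.comap B.subtype (F (j + 1)) := (F j).liftQ ψ (fun x hx => by
    rw [LinearMap.mem_ker, hψ]
    show _ ∈ Ideal.ofList fs ^ ex n (j + 1) • ⊤
    rw [hexj]
    exact d_mem_pow _ fs (fun f hf => Ideal.subset_span hf) _ _ _ x hx)
  have hβsurj : Function.Surjective β := fun y => by
    obtain ⟨y, rfl⟩ := Submodule.mkQ_surjective _ y
    obtain ⟨x, rfl⟩ := (K.d j (j + 1)).hom.surjective_rangeRestrict y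
    exact ⟨(F j).mkQ x, rfl⟩
  have hexact : Function.Exact α β := by
    intro y
    obtain ⟨x, rfl⟩ := Submodule.mkQ_surjective _ y
    constructor
    · intro hx
      have hx' : K.d j (j + 1) x ∈ F (j + 1) := (hψ x).mp hx
      obtain ⟨w, hw, hw'⟩ := hN (ex n j) (by simp only [ex]; omega) (j + 1) _ (d_mem_Z K j (j + 1) x) (hexj ▸ hx')
      have hcast : ∀ (j' : ℤ) (hj : j' = j) (w : K.X j'), w ∈ Ideal.ofList fs ^ ex n j • (⊤ : Submodule A (K.X j')) →
          K.d j' (j + 1) w = K.d j (j + 1) x → (F j).mkQ x ∈ LinearMap.range α := by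
        intro j' hj v hv hv'
        subst hj
        refine ⟨⟨x - v, by show K.d j' (j' + 1) (x - v) = 0; rw [map_sub, hv', sub_self]⟩, ?_⟩
        show (F j').mkQ (x - v) = (F j').mkQ x
        rw [map_sub, show (F j').mkQ v = 0 from (Submodule.Quotient.mk_eq_zero _).mpr hv, sub_zero]
      exact hcast _ (add_sub_cancel_right j 1) w hw hw'
    · rintro ⟨z, hz⟩
      rw [← hz]
      refine (hψ z.1).mpr ?_
      rw [show K.d j (j + 1) z.1 = 0 from z.2]
      exact zero_mem _
  have h1 := length_middle α β hexact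
  rw [LinearMap.range_eq_top.mpr hβsurj, Module.length_top] at h1
  refine h1.trans ?_
  congr 1
  -- the cycles
  let W := LinearMap.ker α
  let B' := LinearMap.range (K.d (j - 1) j).hom
  let ι : B' →ₗ[A] Z K j := Submodule.inclusion (by rintro _ ⟨y, rfl⟩; exact d_mem_Z K _ _ y)
  have hWle : W ≤ LinearMap.ker (cl K j) := by
    intro z hz
    have hz' : z.1 ∈ F j := (Submodule.Quotient.mk_eq_zero _).mp hz
    obtain ⟨w, -, hw⟩ := hN (ex n (j - 1)) (by simp only [ex]; omega) j z.1 z.2 (hexj' ▸ hz')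
    exact (cl_eq_zero_iff K (sub_add_cancel j 1) z).mpr ⟨w, hw⟩
  let a : (B' ⧸ Submodule.comap B'.subtype (F j)) →ₗ[A] Z K j ⧸ W := Submodule.mapQ _ _ ι (fun y hy =>
    (Submodule.Quotient.mk_eq_zero _).mpr hy)
  let b : (Z K j ⧸ W) →ₗ[A] K.homology j := W.liftQ (cl K j) hWle
  have hb : Function.Surjective b := fun c => by
    obtain ⟨z, rfl⟩ := cl_surjective K j c
    exact ⟨W.mkQ z, rfl⟩
  have hab : Function.Exact a b := by
    intro y
    obtain ⟨z, rfl⟩ := Submodule.mkQ_surjective _ y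
    constructor
    · intro hz
      obtain ⟨w, hw⟩ := (cl_eq_zero_iff K (sub_add_cancel j 1) z).mp hz
      exact ⟨Submodule.Quotient.mk ⟨z.1, w, hw⟩, congrArg Submodule.Quotient.mk (Subtype.ext rfl)⟩
    · rintro ⟨v, hv⟩
      obtain ⟨⟨v, w, hw⟩, rfl⟩ := Submodule.Quotient.mk_surjective _ v
      rw [← hv]
      exact (cl_eq_zero_iff K (sub_add_cancel j 1) _).mpr ⟨w, hw⟩
  have ha : Function.Injective a := by
    rw [injective_iff_map_eq_zero]
    intro v hv
    obtain ⟨v, rfl⟩ := Submodule.Quotient.mk_surjective _ v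
    have hv' : ι v ∈ W := (Submodule.Quotient.mk_eq_zero _).mp hv
    exact (Submodule.Quotient.mk_eq_zero _).mpr ((Submodule.Quotient.mk_eq_zero (p := F j)).mp hv')
  rw [← α.quotKerEquivRange.length_eq, Module.length_eq_add_of_exact a b ha hb hab, add_comm]
  rfl

/-- For large `n`, the alternating sum of Samuel lengths is the Euler characteristic. -/
theorem exists_sum_eq_chi (fs : List A) (h : Good fs M) :
    ∃ N, ∀ n, N ≤ n → ∑ i ∈ Finset.range (fs.length + 1), (-1 : ℤ) ^ i * ((fs.length.choose i : ℤ) *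
      ((Module.length A (M ⧸ (Ideal.ofList fs ^ (n - i) • ⊤ : Submodule A M))).toNat : ℤ)) = chi fs M := by
  obtain ⟨N, hN⟩ := exists_acyclic (M := M) fs
  refine ⟨N + fs.length + 1, fun n hn => ?_⟩
  let r : ℕ → ℤ := fun i => ((bLen fs M n (-(i : ℤ)) (-(i : ℤ) + 1)).toNat : ℤ)
  have hfin : ∀ m : ℕ, Module.length A (M ⧸ (Ideal.ofList fs ^ m • ⊤ : Submodule A M)) ≠ ⊤ := fun m =>
    length_ne_top_of_forall _ fun p hp hle => h p hp
      ((LinearMap.annihilator_le_of_surjective _ (Submodule.mkQ_surjective _)).trans hle) (by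
        intro a ha
        refine hp.mem_of_pow_mem m (hle ?_)
        rw [Module.mem_annihilator]
        intro x
        obtain ⟨x, rfl⟩ := Submodule.mkQ_surjective _ x
        rw [← map_smul, Submodule.mkQ_apply, Submodule.Quotient.mk_eq_zero]
        exact Submodule.smul_mem_smul (Ideal.pow_mem_pow ha m) trivial)
  have key : ∀ i ∈ Finset.range (fs.length + 1), (-1 : ℤ) ^ i * ((fs.length.choose i : ℤ) *
      ((Module.length A (M ⧸ (Ideal.ofList fs ^ (n - i) • ⊤ : Submodule A M))).toNat : ℤ)) =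
      (-1 : ℤ) ^ i * ((Module.length A (H fs M (-(i : ℤ)))).toNat : ℤ) + (-1 : ℤ) ^ i * (r (i + 1) + r i) := by
    intro i hi
    rw [Finset.mem_range] at hi
    have h1 := qLen_eq fs n N hN (-(i : ℤ)) (by omega)
    rw [show ex n (-(i : ℤ)) = n - i by simp only [ex]; omega, length_X_quot] at h1
    have hne : (fs.length.choose i : ℕ∞) * Module.length A (M ⧸ (Ideal.ofList fs ^ (n - i) • ⊤ : Submodule A M)) ≠ ⊤ :=
      WithTop.mul_ne_top (ENat.natCast_ne_top _) (hfin _)
    rw [h1] at hne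
    have h2 := congrArg (fun x : ℕ∞ => (x.toNat : ℤ)) h1
    simp only [ENat.toNat_mul, ENat.toNat_natCast, Nat.cast_mul] at h2
    rw [ENat.toNat_add (fun e => hne (by rw [e, top_add])) (fun e => hne (by rw [e, add_top])),
      ENat.toNat_add (fun e => hne (by rw [e, top_add, top_add])) (fun e => hne (by rw [e, add_top, top_add]))] at h2
    rw [h2]
    push_cast
    have hr : r (i + 1) = ((bLen fs M n (-(i : ℤ) - 1) (-(i : ℤ))).toNat : ℤ) := by
      show ((bLen fs M n (-((i + 1 : ℕ) : ℤ)) (-((i + 1 : ℕ) : ℤ) + 1)).toNat : ℤ) = _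
      rw [show (-((i + 1 : ℕ) : ℤ) + 1) = -(i : ℤ) by omega, show (-((i + 1 : ℕ) : ℤ)) = -(i : ℤ) - 1 by omega]
    rw [hr]
    ring
  have hr : ∀ i : ℕ, i = 0 ∨ i = fs.length + 1 → r i = 0 := fun i hi => by
    have : bLen fs M n (-(i : ℤ)) (-(i : ℤ) + 1) = 0 := by
      haveI : Subsingleton (LinearMap.range ((koszulCx (ModuleCat.of A M) fs).d (-(i : ℤ)) (-(i : ℤ) + 1)).hom) := by
        rcases hi with rfl | rfl
        · haveI := ModuleCat.isZero_iff_subsingleton.1 (isZero_X (ModuleCat.of A M) fs (-((0 : ℕ) : ℤ) + 1) (by omega))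
          exact Function.Injective.subsingleton Subtype.val_injective
        · haveI := ModuleCat.isZero_iff_subsingleton.1 (isZero_X (ModuleCat.of A M) fs (-((fs.length + 1 : ℕ) : ℤ)) (by omega))
          exact (LinearMap.surjective_rangeRestrict _).subsingleton
      exact Module.length_eq_zero
    simp [r, this]
  rw [Finset.sum_congr rfl key, Finset.sum_add_distrib, telescope, hr 0 (Or.inl rfl), hr _ (Or.inr rfl), mul_zero, add_zero, add_zero]
  rfl

open scoped fwdDiff in
/-- **Serre**: the Euler characteristic is the leading coefficient of the Samuel function. -/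
theorem tendsto_samuel (fs : List A) (h : Good fs M) :
    Tendsto (fun n : ℕ => (fs.length.factorial : ℝ) *
        ((Module.length A (M ⧸ (Ideal.ofList fs ^ n • ⊤ : Submodule A M))).toNat : ℝ) / (n : ℝ) ^ fs.length)
      atTop (𝓝 (chi fs M : ℝ)) := by
  obtain ⟨N, hN⟩ := exists_sum_eq_chi fs h
  let k := fs.length
  let L : ℕ → ℤ := fun n => ((Module.length A (M ⧸ (Ideal.ofList fs ^ n • ⊤ : Submodule A M))).toNat : ℤ)
  let g : ℕ → ℤ := fun t => L (N + t)
  have hk : ∀ t, Δ_[1]^[k] g t = chi fs M := fun t => by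
    rw [fwdDiff_iter_eq_sum_shift, ← hN (N + t + k) (by omega), ← Finset.sum_range_reflect]
    refine Finset.sum_congr rfl fun i hi => ?_
    rw [Finset.mem_range] at hi
    rw [show k - (k + 1 - 1 - i) = i by omega, show k + 1 - 1 - i = k - i by omega, Nat.choose_symm (by omega)]
    simp only [g, L, k, smul_eq_mul, mul_one]
    rw [show N + (t + (fs.length - i)) = N + t + fs.length - i by omega, mul_assoc]
  have hk' : ∀ j, Δ_[1]^[k + 1 + j] g = 0 := by
    intro j
    induction j with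
    | zero =>
      funext t
      rw [add_zero, Function.iterate_succ_apply', fwdDiff, hk, hk, sub_self]
      rfl
    | succ j ih =>
      funext t
      rw [show k + 1 + (j + 1) = (k + 1 + j) + 1 by ring, Function.iterate_succ_apply', ih, fwdDiff]
      simp
  have hexp : ∀ t, k ≤ t → (g t : ℝ) = ∑ j ∈ Finset.range (k + 1), (t.choose j : ℝ) * (Δ_[1]^[j] g 0 : ℤ) := by
    intro t ht
    have h1 := shift_eq_sum_fwdDiff_iter (h := 1) g t 0
    simp only [zero_add, smul_eq_mul, mul_one] at h1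
    rw [h1, ← Finset.sum_subset (Finset.range_mono (Nat.succ_le_succ ht)) (fun j _ hj => by
      rw [Finset.mem_range, not_lt] at hj
      obtain ⟨j, rfl⟩ : ∃ i, j = k + 1 + i := ⟨j - (k + 1), by omega⟩
      rw [hk']; simp)]
    push_cast
    exact Finset.sum_congr rfl fun j _ => by simp
  have hlim : ∀ j ∈ Finset.range (k + 1), Tendsto (fun t : ℕ => (k.factorial : ℝ) * ((t.choose j : ℝ) * ((Δ_[1]^[j] g 0 : ℤ) : ℝ)) / (t : ℝ) ^ k) atTop
      (𝓝 (if j = k then ((Δ_[1]^[j] g 0 : ℤ) : ℝ) else 0)) := by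
    intro j hj
    rw [Finset.mem_range] at hj
    have hne : ∀ᶠ t : ℕ in atTop, ((t : ℝ) ^ j / j.factorial) ≠ 0 := (eventually_ne_atTop 0).mono fun t ht =>
      div_ne_zero (pow_ne_zero _ (Nat.cast_ne_zero.mpr ht)) (Nat.cast_ne_zero.mpr j.factorial_ne_zero)
    have h1 : Tendsto (fun t : ℕ => (t.choose j : ℝ) / ((t : ℝ) ^ j / j.factorial)) atTop (𝓝 1) :=
      (Asymptotics.isEquivalent_iff_tendsto_one hne).mp (isEquivalent_choose j)
    have h2 : Tendsto (fun t : ℕ => (t : ℝ) ^ j / (t : ℝ) ^ k) atTop (𝓝 (if j = k then 1 else 0)) := by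
      split_ifs with hjk
      · subst hjk
        exact tendsto_const_nhds.congr' ((eventually_ne_atTop 0).mono fun t ht =>
          (div_self (pow_ne_zero _ (Nat.cast_ne_zero.mpr ht))).symm)
      · refine (tendsto_pow_div_pow_atTop_zero (show j < k by omega)).comp tendsto_natCast_atTop_atTop
    have h3 := ((h1.mul h2).const_mul ((k.factorial : ℝ) / j.factorial * ((Δ_[1]^[j] g 0 : ℤ) : ℝ)))
    rw [one_mul] at h3
    convert h3.congr' ((eventually_ne_atTop 0).mono fun t ht => ?_) using 2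
    · split_ifs with hjk
      · subst hjk
        rw [mul_one, div_self (Nat.cast_ne_zero.mpr k.factorial_ne_zero), one_mul]
      · simp
    · have : (t : ℝ) ^ j ≠ 0 := pow_ne_zero _ (Nat.cast_ne_zero.mpr ht)
      have : (j.factorial : ℝ) ≠ 0 := Nat.cast_ne_zero.mpr j.factorial_ne_zero
      field_simp
  have hsum := tendsto_finset_sum _ hlim
  rw [Finset.sum_ite_eq' _ k, if_pos (Finset.self_mem_range_succ k)] at hsum
  have hmain : Tendsto (fun t : ℕ => (k.factorial : ℝ) * (g t : ℝ) / (t : ℝ) ^ k) atTop (𝓝 (chi fs M : ℝ)) := by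
    rw [← hk 0]
    refine hsum.congr' ((eventually_ge_atTop k).mono fun t ht => ?_)
    show _ = (k.factorial : ℝ) * (g t : ℝ) / (t : ℝ) ^ k
    rw [hexp t ht, Finset.mul_sum, Finset.sum_div]
  refine (tendsto_add_atTop_iff_nat N).mp ?_
  have hr := ((tendsto_natCast_div_add_atTop (N : ℝ)).pow k)
  have h4 := hmain.mul hr
  rw [one_pow, mul_one] at h4
  refine h4.congr' ((eventually_ne_atTop 0).mono fun t ht => ?_)
  have ht' : (t : ℝ) ≠ 0 := Nat.cast_ne_zero.mpr ht
  have htN : ((t : ℝ) + N) ≠ 0 := by positivity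
  simp only [g, L, k]
  rw [Int.cast_natCast, show N + t = t + N by ring, Nat.cast_add, div_pow]
  field_simp

end Groth.L05.Kosz
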