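import Groth.Agent.L05.Kosz.Basic
import Mathlib.RingTheory.KrullDimension.Regular
import Mathlib.RingTheory.KrullDimension.Module
import Mathlib.LinearAlgebra.Dimension.Localization
import Mathlib.LinearAlgebra.Dimension.StrongRankCondition
import Mathlib.RingTheory.TensorProduct.IsBaseChangeFree

/-!
# Reduction of Koszul Euler characteristics along the first element
-/

set_option autoImplicit false
set_option linter.style.haveILetI false

universe u

namespace Groth.L05.Kosz

open IsLocalRing

variable {A : Type u} [CommRing A] [IsNoetherianRing A] {M : Type u} [AddCommGroup M] [Module A M]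

/-- The `f`-torsion. -/
theorem exists_torsion [Module.Finite A M] (f : A) :
    ∃ (T : Submodule A M) (a : ℕ), f ^ a ∈ Module.annihilator A T ∧ IsSMulRegular (M ⧸ T) f := by
  haveI : IsNoetherian A M := inferInstance
  let K : ℕ →o Submodule A M := ⟨fun k => LinearMap.ker (LinearMap.lsmul A M (f ^ k)), fun a b hab m hm => by
    change f ^ a • m = 0 at hm
    change f ^ b • m = 0
    rw [← Nat.sub_add_cancel hab, pow_add, mul_smul, hm, smul_zero]⟩
  obtain ⟨a, ha⟩ := monotone_stabilizes_iff_noetherian.mpr ‹_› K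
  refine ⟨K a, a, Module.mem_annihilator.mpr fun t => Subtype.ext t.2, ?_⟩
  refine IsSMulRegular.of_right_eq_zero_of_smul fun z hz => ?_
  obtain ⟨m, rfl⟩ := Submodule.Quotient.mk_surjective _ z
  rw [← Submodule.Quotient.mk_smul, Submodule.Quotient.mk_eq_zero] at hz
  rw [Submodule.Quotient.mk_eq_zero, ha (a + 1) a.le_succ]
  change f ^ (a + 1) • m = 0
  rw [pow_succ, mul_smul]
  exact hz

/-- The quotient by a multiplication. -/
abbrev Qf (f : A) (M : Type u) [AddCommGroup M] [Module A M] : Type u :=
  M ⧸ LinearMap.range (LinearMap.lsmul A M f)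

theorem chi_cons [Module.Finite A M] {f : A} {fs : List A} (h : Good (f :: fs) M) (T : Submodule A M) {a : ℕ}
    (ha : f ^ a ∈ Module.annihilator A T) (hreg : IsSMulRegular (M ⧸ T) f) :
    chi (f :: fs) M = chi fs (Qf f (M ⧸ T)) := by
  rw [chi_add (fs := f :: fs) T.subtype T.mkQ (Submodule.subtype_injective _) (Submodule.mkQ_surjective _)
    (LinearMap.exact_subtype_mkQ T) h, chi_cons_eq_zero f ((h.of_injective T.subtype (Submodule.subtype_injective _)).of_pow ha),
    zero_add, chi_cons_regular f hreg]

theorem Good.mono {fs gs : List A} (h : Good fs M)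
    (hle : ∀ p : Ideal A, p.IsPrime → Ideal.ofList gs ≤ p → Ideal.ofList fs ≤ p) : Good gs M :=
  fun p hp h₁ h₂ => h p hp h₁ (hle p hp h₂)

section Mul

theorem chi_mul [Module.Finite A M] (x y : A) (fs : List A) (hx : Good (x :: fs) M) (hy : Good (y :: fs) M) :
    chi ((x * y) :: fs) M = chi (x :: fs) M + chi (y :: fs) M := by
  have hxy : Good ((x * y) :: fs) M := fun p hp h₁ h₂ => by
    rw [Ideal.ofList_cons, sup_le_iff, Ideal.span_singleton_le_iff_mem] at h₂
    rcases hp.mem_or_mem h₂.1 with h | h
    · exact hx p hp h₁ (by rw [Ideal.ofList_cons, sup_le_iff, Ideal.span_singleton_le_iff_mem]; exact ⟨h, h₂.2⟩)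
    · exact hy p hp h₁ (by rw [Ideal.ofList_cons, sup_le_iff, Ideal.span_singleton_le_iff_mem]; exact ⟨h, h₂.2⟩)
  obtain ⟨T, a, ha, hreg⟩ := exists_torsion (M := M) (x * y)
  have hT : ∀ z, Good (z :: fs) M → (z = x ∨ z = y) → chi (z :: fs) T = 0 := by
    intro z hz hzxy
    have hzT := hz.of_injective T.subtype (Submodule.subtype_injective _)
    let g := LinearMap.lsmul A T (y ^ a)
    have h1 : chi (z :: fs) (LinearMap.range g) = 0 := by
      refine chi_cons_eq_zero z ((hx.of_injective T.subtype (Submodule.subtype_injective _)).of_injective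
        (LinearMap.range g).subtype (Submodule.subtype_injective _) |>.of_pow (a := a) ?_)
      rw [Module.mem_annihilator]
      rintro ⟨_, t, rfl⟩
      refine Subtype.ext ?_
      show x ^ a • y ^ a • t = 0
      rw [smul_smul, ← mul_pow]
      exact Module.mem_annihilator.mp ha t
    have h2 : chi (z :: fs) (T ⧸ LinearMap.range g) = 0 := by
      refine chi_cons_eq_zero z ((hy.of_injective T.subtype (Submodule.subtype_injective _)).of_surjective
        (LinearMap.range g).mkQ (Submodule.mkQ_surjective _) |>.of_pow (a := a) ?_)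
      rw [Module.mem_annihilator]
      intro t
      obtain ⟨t, rfl⟩ := Submodule.Quotient.mk_surjective _ t
      rw [← Submodule.Quotient.mk_smul, Submodule.Quotient.mk_eq_zero]
      exact ⟨t, rfl⟩
    rw [chi_add (fs := z :: fs) (LinearMap.range g).subtype (LinearMap.range g).mkQ (Submodule.subtype_injective _)
      (Submodule.mkQ_surjective _) (LinearMap.exact_subtype_mkQ _) hzT, h1, h2, add_zero]
  have hrx : IsSMulRegular (M ⧸ T) x := IsSMulRegular.of_right_eq_zero_of_smul fun z hz =>
    hreg.right_eq_zero_of_smul (by rw [mul_comm, mul_smul, hz, smul_zero])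
  have hry : IsSMulRegular (M ⧸ T) y := IsSMulRegular.of_right_eq_zero_of_smul fun z hz =>
    hreg.right_eq_zero_of_smul (by rw [mul_smul, hz, smul_zero])
  rw [chi_cons hxy T ha hreg,
    chi_add (fs := x :: fs) T.subtype T.mkQ (Submodule.subtype_injective _) (Submodule.mkQ_surjective _)
      (LinearMap.exact_subtype_mkQ T) hx,
    chi_add (fs := y :: fs) T.subtype T.mkQ (Submodule.subtype_injective _) (Submodule.mkQ_surjective _)
      (LinearMap.exact_subtype_mkQ T) hy,
    hT x hx (Or.inl rfl), hT y hy (Or.inr rfl), zero_add, zero_add, chi_cons_regular x hrx, chi_cons_regular y hry]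
  let N := M ⧸ T
  let α : Qf x N →ₗ[A] Qf (x * y) N := Submodule.mapQ _ _ (LinearMap.lsmul A N y) (by
    rintro _ ⟨n, rfl⟩
    exact ⟨n, by show (x * y) • n = y • x • n; rw [smul_smul, mul_comm]⟩)
  let β : Qf (x * y) N →ₗ[A] Qf y N := Submodule.factor (by
    rintro _ ⟨n, rfl⟩
    exact ⟨x • n, by show y • x • n = (x * y) • n; rw [smul_smul, mul_comm]⟩)
  refine chi_add (fs := fs) α β ?_ (Submodule.factor_surjective _) ?_ ?_
  · rw [injective_iff_map_eq_zero]
    intro z hz
    obtain ⟨n, rfl⟩ := Submodule.Quotient.mk_surjective _ z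
    obtain ⟨m, hm⟩ := (Submodule.Quotient.mk_eq_zero _).mp hz
    refine (Submodule.Quotient.mk_eq_zero _).mpr ⟨m, hry ?_⟩
    show y • x • m = y • n
    rw [smul_smul, mul_comm]
    exact hm
  · intro z
    obtain ⟨n, rfl⟩ := Submodule.Quotient.mk_surjective _ z
    constructor
    · intro hz
      obtain ⟨m, hm⟩ := (Submodule.Quotient.mk_eq_zero _).mp hz
      exact ⟨Submodule.Quotient.mk m, congrArg Submodule.Quotient.mk hm⟩
    · rintro ⟨w, hw⟩
      obtain ⟨m, rfl⟩ := Submodule.Quotient.mk_surjective _ w
      rw [← hw]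
      exact (Submodule.Quotient.mk_eq_zero _).mpr ⟨m, rfl⟩
  · exact (hxy.of_surjective T.mkQ (Submodule.mkQ_surjective _)).quot

omit [IsNoetherianRing A] in
theorem good_one_cons (fs : List A) : Good ((1 : A) :: fs) M := fun p hp _ h =>
  absurd (Ideal.eq_top_iff_one p |>.mpr (h (Ideal.subset_span List.mem_cons_self))) hp.ne_top

theorem chi_pow_head [Module.Finite A M] (x : A) (fs : List A) (h : Good (x :: fs) M) (m : ℕ) :
    chi (x ^ m :: fs) M = m * chi (x :: fs) M := by
  induction m with
  | zero =>
    rw [pow_zero, Nat.cast_zero, zero_mul]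
    have := chi_mul (M := M) 1 1 fs (good_one_cons fs) (good_one_cons fs)
    rw [one_mul] at this
    linarith
  | succ m ih =>
    have hm : Good (x ^ m :: fs) M := h.mono fun p hp hle => by
      rw [Ideal.ofList_cons, sup_le_iff, Ideal.span_singleton_le_iff_mem] at hle ⊢
      exact ⟨hp.mem_of_pow_mem m hle.1, hle.2⟩
    rw [pow_succ, chi_mul (x ^ m) x fs hm h, ih]
    push_cast
    ring

omit [IsNoetherianRing A] in
theorem ofList_pows_le {p : Ideal A} (hp : p.IsPrime) {l : List (A × ℕ)}
    (h : Ideal.ofList (l.map fun q => q.1 ^ q.2) ≤ p) : Ideal.ofList (l.map Prod.fst) ≤ p := by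
  rw [Ideal.ofList, Ideal.span_le] at h ⊢
  intro a ha
  obtain ⟨q, hq, rfl⟩ := List.mem_map.mp ha
  exact hp.mem_of_pow_mem q.2 (h (List.mem_map.mpr ⟨q, hq, rfl⟩))

theorem chi_pows (l : List (A × ℕ)) : ∀ (M : Type u) [AddCommGroup M] [Module A M] [Module.Finite A M],
    Good (l.map Prod.fst) M → chi (l.map fun q => q.1 ^ q.2) M = ((l.map fun q => (q.2 : ℤ)).prod) * chi (l.map Prod.fst) M := by
  induction l with
  | nil => intro M _ _ _ _; simp
  | cons q l ih =>
    intro M _ _ _ h
    simp only [List.map_cons, List.prod_cons] at h ⊢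
    have h' : Good (q.1 :: l.map fun r => r.1 ^ r.2) M := h.mono fun p hp hle => by
      rw [Ideal.ofList_cons, sup_le_iff] at hle ⊢
      exact ⟨hle.1, ofList_pows_le hp hle.2⟩
    obtain ⟨T, a, ha, hreg⟩ := exists_torsion (M := M) q.1
    rw [chi_pow_head q.1 _ h', chi_cons h' T ha hreg, chi_cons h T ha hreg,
      ih _ (h.of_surjective T.mkQ (Submodule.mkQ_surjective _)).quot, mul_assoc]

end Mul

section Dim

theorem length_H_nil (M : Type u) [AddCommGroup M] [Module A M] :
    Module.length A (H ([] : List A) M 0) = Module.length A M := by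
  rw [← (Groth.L04.Koszul.topEquiv (ModuleCat.of A M) ([] : List A)).length_eq]
  refine ((Submodule.quotEquivOfEqBot _ ?_)).length_eq
  rw [Ideal.ofList_nil, Submodule.bot_smul]

theorem chi_nil (M : Type u) [AddCommGroup M] [Module A M] :
    chi ([] : List A) M = ((Module.length A M).toNat : ℤ) := by
  simp [chi, length_H_nil]

theorem quotSMulTop_equiv (f : A) (M : Type u) [AddCommGroup M] [Module A M] :
    Nonempty (Qf f M ≃ₗ[A] QuotSMulTop f M) :=
  ⟨Submodule.quotEquivOfEq _ _ (by
    ext m; simp [Submodule.mem_smul_pointwise_iff_exists])⟩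

variable [IsLocalRing A]

theorem supportDim_le_length (fs : List A) (hfs : ∀ f ∈ fs, f ∈ maximalIdeal A) :
    ∀ (M : Type u) [AddCommGroup M] [Module A M] [Module.Finite A M], Good fs M →
      Module.supportDim A M ≤ (fs.length : WithBot ℕ∞) := by
  induction fs with
  | nil =>
    intro M _ _ _ h
    refine iSup_le fun l => ?_
    simp only [List.length_nil, Nat.cast_zero]
    by_contra hl
    have hl' : 0 < l.length := by
      by_contra h0
      exact hl (by rw [show l.length = 0 by omega]; rfl)
    have h0 : Module.annihilator A M ≤ (l 0).1.asIdeal :=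
      (Set.ext_iff.mp (Module.support_eq_zeroLocus (R := A) (M := M)) _).mp (l 0).2
    have hmax := h _ (l 0).1.2 h0 (by rw [Ideal.ofList_nil]; exact bot_le)
    have hlt : l 0 < l (Fin.last _) := l.strictMono (by simp only [Fin.lt_def, Fin.val_zero, Fin.val_last]; omega)
    exact absurd (hmax.eq_of_le (l (Fin.last _)).1.2.ne_top (le_of_lt hlt : _)) fun he =>
      hlt.ne (Subtype.ext (PrimeSpectrum.ext he))
  | cons f fs ih =>
    intro M _ _ _ h
    obtain ⟨e⟩ := quotSMulTop_equiv f M
    refine (Module.supportDim_le_supportDim_quotSMulTop_succ (hfs f List.mem_cons_self)).trans ?_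
    rw [← Module.supportDim_eq_of_equiv e, List.length_cons, Nat.cast_add, Nat.cast_one]
    exact add_le_add (ih (fun g hg => hfs g (List.mem_cons_of_mem _ hg)) _ h.quot) le_rfl

theorem supportDim_quot [Module.Finite A M] {f : A} (hf : f ∈ maximalIdeal A) (hreg : IsSMulRegular M f) :
    Module.supportDim A (Qf f M) + 1 = Module.supportDim A M := by
  obtain ⟨e⟩ := quotSMulTop_equiv f M
  rw [Module.supportDim_eq_of_equiv e]
  exact Module.supportDim_quotSMulTop_succ_eq_supportDim hreg hf

theorem chi_eq_zero_of_lt (fs : List A) (hfs : ∀ f ∈ fs, f ∈ maximalIdeal A) :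
    ∀ (M : Type u) [AddCommGroup M] [Module A M] [Module.Finite A M], Good fs M →
      Module.supportDim A M < (fs.length : WithBot ℕ∞) → chi fs M = 0 := by
  induction fs with
  | nil =>
    intro M _ _ _ h hlt
    haveI : Subsingleton M := by
      rw [← Module.supportDim_eq_bot_iff_subsingleton A M]
      by_contra hne
      obtain ⟨d, hd⟩ := WithBot.ne_bot_iff_exists.mp hne
      rw [← hd] at hlt
      exact absurd (WithBot.coe_lt_coe.mp hlt) (by simp)
    rw [chi_nil, Module.length_eq_zero]
    rfl
  | cons f fs ih =>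
    intro M _ _ _ h hlt
    obtain ⟨T, a, ha, hreg⟩ := exists_torsion (M := M) f
    rw [chi_cons h T ha hreg]
    refine ih (fun g hg => hfs g (List.mem_cons_of_mem _ hg)) _
      (h.of_surjective T.mkQ (Submodule.mkQ_surjective _)).quot ?_
    have h1 := (Module.supportDim_le_of_surjective T.mkQ (Submodule.mkQ_surjective _)).trans_lt hlt
    rw [← supportDim_quot (hfs f List.mem_cons_self) hreg, List.length_cons, Nat.cast_add, Nat.cast_one] at h1
    by_contra hge
    exact (not_lt.mpr (add_le_add (not_lt.mp hge) le_rfl)) h1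

theorem supportDim_quotient_eq [Module.Finite A M] (T : Submodule A M) (d : ℕ)
    (hM : Module.supportDim A M = d) (hT : Module.supportDim A T < d) : Module.supportDim A (M ⧸ T) = d := by
  refine le_antisymm (hM ▸ Module.supportDim_le_of_surjective T.mkQ (Submodule.mkQ_surjective _)) ?_
  obtain ⟨l, hl⟩ := Order.le_krullDim_iff.mp (show (d : WithBot ℕ∞) ≤ Order.krullDim (Module.support A M) from hM.ge)
  have hsupp := Module.support_of_exact (LinearMap.exact_subtype_mkQ T) (Submodule.subtype_injective _) (Submodule.mkQ_surjective _)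
  have h0 : (l 0).1 ∈ Module.support A T ∪ Module.support A (M ⧸ T) := hsupp ▸ (l 0).2
  have hmono : ∀ i, (l 0).1 ≤ (l i).1 := fun i => l.strictMono.monotone (Fin.zero_le i)
  rcases h0 with h0 | h0
  · let l' : LTSeries (Module.support A T) :=
      ⟨l.length, fun i => ⟨(l i).1, Module.mem_support_mono (hmono i) h0⟩, fun i => l.step i⟩
    exact absurd ((Order.LTSeries.length_le_krullDim l').trans_lt hT) (by rw [show l'.length = d from hl]; exact lt_irrefl _)
  · let l' : LTSeries (Module.support A (M ⧸ T)) :=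
      ⟨l.length, fun i => ⟨(l i).1, Module.mem_support_mono (hmono i) h0⟩, fun i => l.step i⟩
    exact hl ▸ Order.LTSeries.length_le_krullDim l'

theorem chi_pos_of_eq (fs : List A) (hfs : ∀ f ∈ fs, f ∈ maximalIdeal A) :
    ∀ (M : Type u) [AddCommGroup M] [Module A M] [Module.Finite A M], Good fs M →
      Module.supportDim A M = (fs.length : WithBot ℕ∞) → 0 < chi fs M := by
  induction fs with
  | nil =>
    intro M _ _ _ h hd
    haveI : Nontrivial M := by
      rw [← Module.supportDim_ne_bot_iff_nontrivial A M, hd]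
      simp
    have hne := length_ne_top_of_forall M fun p hp hle => h p hp hle (by rw [Ideal.ofList_nil]; exact bot_le)
    rw [chi_nil]
    have h0 : Module.length A M ≠ 0 := fun h0 => not_subsingleton M (Module.length_eq_zero_iff.mp h0)
    have : (Module.length A M).toNat ≠ 0 := fun h => by
      rcases ENat.toNat_eq_zero.mp h with h | h
      exacts [h0 h, hne h]
    omega
  | cons f fs ih =>
    intro M _ _ _ h hd
    obtain ⟨T, a, ha, hreg⟩ := exists_torsion (M := M) f
    rw [chi_cons h T ha hreg]
    refine ih (fun g hg => hfs g (List.mem_cons_of_mem _ hg)) _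
      (h.of_surjective T.mkQ (Submodule.mkQ_surjective _)).quot ?_
    have hT := supportDim_le_length fs (fun g hg => hfs g (List.mem_cons_of_mem _ hg)) T
      ((h.of_injective T.subtype (Submodule.subtype_injective _)).of_pow ha)
    have h1 := supportDim_quotient_eq T (fs.length + 1) hd (hT.trans_lt (by exact_mod_cast Nat.lt_succ_self _))
    rw [← supportDim_quot (hfs f List.mem_cons_self) hreg, Nat.cast_add, Nat.cast_one] at h1
    generalize Module.supportDim A (Qf f (M ⧸ T)) = D at h1
    cases D using WithBot.recBotCoe with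
    | bot => simp at h1; exact absurd h1.symm (by exact_mod_cast WithBot.coe_ne_bot)
    | coe D =>
      cases D using ENat.recTopCoe with
      | top =>
        have h1' : (⊤ : ℕ∞) + 1 = ((fs.length + 1 : ℕ) : ℕ∞) := by exact_mod_cast h1
        rw [top_add] at h1'
        exact absurd h1'.symm (ENat.natCast_ne_top _)
      | coe D =>
        have h1' : D + 1 = fs.length + 1 := by exact_mod_cast h1
        rw [show D = fs.length by omega]
        rfl

end Dim

section Rank

theorem chi_pi (fs : List A) (h : Good fs A) : ∀ r : ℕ, chi fs (Fin r → A) = r * chi fs A := by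
  have hgood : ∀ r : ℕ, Good fs (Fin r → A) := fun r p hp h₁ h₂ => h p hp ((fun a ha => h₁ (by
    rw [Module.mem_annihilator] at ha ⊢
    exact fun v => funext fun i => ha (v i))) ) h₂
  intro r
  induction r with
  | zero =>
    rw [Nat.cast_zero, zero_mul]
    refine Finset.sum_eq_zero fun i _ => ?_
    haveI : Subsingleton (H fs (Fin 0 → A) (-(i : ℤ))) := subsingleton_of_forall_eq 0 fun c => by
      rw [← one_smul A c, smul_H_eq_zero_of_annihilator fs (Module.mem_annihilator.2 fun _ => Subsingleton.elim _ _)]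
    rw [Module.length_eq_zero]; simp
  | succ r ih =>
    let f : A →ₗ[A] (Fin (r + 1) → A) := LinearMap.single A (fun _ => A) 0
    let g : (Fin (r + 1) → A) →ₗ[A] (Fin r → A) := LinearMap.funLeft A A Fin.succ
    rw [chi_add (fs := fs) f g (fun a b h => by simpa [f] using congrFun h 0) (LinearMap.funLeft_surjective_of_injective A A _ (Fin.succ_injective _))
      (fun v => ⟨fun hv => ⟨v 0, funext fun i => ?_⟩, ?_⟩) (hgood _), ih]
    · push_cast; ring
    · refine Fin.cases ?_ (fun j => ?_) i
      · simp [f]
      · have := congrFun hv j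
        simp [f, g, LinearMap.funLeft_apply] at this ⊢
        exact this.symm
    · rintro ⟨w, rfl⟩
      funext j
      simp [f, g, LinearMap.funLeft_apply]

theorem chi_eq_rank_mul [IsLocalRing A] [IsDomain A] (fs : List A) (hfs : ∀ f ∈ fs, f ∈ maximalIdeal A)
    (hd : ringKrullDim A = fs.length) (hA : Good fs A) [Module.Finite A M] :
    chi fs M = (Module.finrank (FractionRing A) (TensorProduct A (FractionRing A) M) : ℤ) * chi fs A := by
  classical
  have hr : Module.finrank (FractionRing A) (TensorProduct A (FractionRing A) M) = Module.finrank A M :=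
    (TensorProduct.isBaseChange A M (FractionRing A)).finrank_eq
  obtain ⟨v, hv⟩ := exists_linearIndependent_of_le_finrank (le_refl (Module.finrank A M))
  let f : (Fin (Module.finrank A M) → A) →ₗ[A] M := Fintype.linearCombination A v
  have hf : Function.Injective f := (linearIndependent_iff_injective_fintypeLinearCombination).mp hv
  have hrange : LinearMap.range f = Submodule.span A (Set.range v) := Fintype.range_linearCombination A v
  let C := M ⧸ LinearMap.range f
  have htor : Module.IsTorsion A C := by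
    intro x
    obtain ⟨m, rfl⟩ := Submodule.Quotient.mk_surjective _ x
    by_contra hno
    push Not at hno
    have hind : LinearIndependent A (Fin.cons m v) := by
      refine Fintype.linearIndependent_iff.mpr fun c hc => ?_
      rw [Fin.sum_univ_succ] at hc
      simp only [Fin.cons_zero, Fin.cons_succ] at hc
      have h0 : c 0 = 0 := by
        by_contra h0
        refine hno ⟨c 0, mem_nonZeroDivisors_of_ne_zero h0⟩ ?_
        rw [Submonoid.mk_smul, ← Submodule.Quotient.mk_smul, Submodule.Quotient.mk_eq_zero, hrange,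
          eq_neg_of_add_eq_zero_left hc]
        exact neg_mem (Submodule.sum_mem _ fun i _ => Submodule.smul_mem _ _ (Submodule.subset_span ⟨i, rfl⟩))
      rw [h0, zero_smul, zero_add] at hc
      exact Fin.cases h0 (Fintype.linearIndependent_iff.mp hv (fun i => c i.succ) hc)
    have := hind.fintype_card_le_finrank
    simp at this
  obtain ⟨a, ha0, ha⟩ : ∃ a : A, a ≠ 0 ∧ a ∈ Module.annihilator A C := by
    obtain ⟨k, s, hs⟩ := Module.Finite.exists_fin (R := A) (M := C)
    choose c hc using fun i => @htor (s i)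
    refine ⟨∏ i, (c i : A), Finset.prod_ne_zero_iff.mpr fun i _ => nonZeroDivisors.ne_zero (c i).2, ?_⟩
    rw [Module.mem_annihilator]
    intro x
    have hx : x ∈ Submodule.span A (Set.range s) := hs ▸ Submodule.mem_top
    induction hx using Submodule.span_induction with
    | mem y hy =>
      obtain ⟨i, rfl⟩ := hy
      obtain ⟨w, hw⟩ := Finset.dvd_prod_of_mem (fun i => (c i : A)) (Finset.mem_univ i)
      have hci : (c i : A) • s i = 0 := hc i
      rw [hw, mul_comm, mul_smul, hci, smul_zero]
    | zero => exact smul_zero _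
    | add y z _ _ hy hz => rw [smul_add, hy, hz, add_zero]
    | smul b y _ hy => rw [smul_comm, hy, smul_zero]
  have hMgood : Good fs M := fun p hp _ h₂ => hA p hp (by
    intro z hz
    rw [Module.mem_annihilator] at hz
    have : z = 0 := by simpa using hz 1
    exact this ▸ zero_mem p) h₂
  have hC : chi fs C = 0 := by
    refine chi_eq_zero_of_lt fs hfs C (hMgood.of_surjective _ (Submodule.mkQ_surjective _)) ?_
    rcases subsingleton_or_nontrivial C with hC | hC
    · rw [Module.supportDim_eq_bot_of_subsingleton]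
      exact WithBot.bot_lt_coe _
    rw [Module.supportDim_eq_ringKrullDim_quotient_annihilator, ← hd]
    have h1 := ringKrullDim_quotient_succ_le_of_nonZeroDivisor (mem_nonZeroDivisors_of_ne_zero ha0)
    have h2 : ringKrullDim (A ⧸ Module.annihilator A C) ≤ ringKrullDim (A ⧸ Ideal.span {a}) :=
      ringKrullDim_le_of_surjective (Ideal.Quotient.factor (Ideal.span_le.mpr (Set.singleton_subset_iff.mpr ha)))
        (Ideal.Quotient.factor_surjective _)
    refine h2.trans_lt ?_
    generalize ringKrullDim (A ⧸ Ideal.span {a}) = D at h1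
    rw [hd] at h1 ⊢
    cases D using WithBot.recBotCoe with
    | bot => exact WithBot.bot_lt_coe _
    | coe D =>
      cases D using ENat.recTopCoe with
      | top =>
        have h1' : ((⊤ : ℕ∞) + 1 : ℕ∞) ≤ (fs.length : ℕ∞) := by exact_mod_cast h1
        simp at h1'
      | coe D =>
        have h1' : D + 1 ≤ fs.length := by exact_mod_cast h1
        exact_mod_cast (Nat.lt_of_succ_le h1')
  rw [chi_add (fs := fs) f (LinearMap.range f).mkQ hf (Submodule.mkQ_surjective _) (LinearMap.exact_map_mkQ_range f) hMgood,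
    hC, add_zero, chi_pi fs hA, hr]

end Rank

section Bound

theorem length_H_quot_pow_le {N : Type u} [AddCommGroup N] [Module A N] (f : A) (hf : IsSMulRegular N f)
    (gs : List A) (j : ℤ) : ∀ n : ℕ,
    Module.length A (H gs (Qf (f ^ n) N) j) ≤ n * Module.length A (H gs (Qf f N) j) := by
  intro n
  induction n with
  | zero =>
    haveI : Subsingleton (Qf (f ^ 0) N) := Submodule.Quotient.subsingleton_iff.mpr (eq_top_iff.mpr fun x _ =>
      ⟨x, by simp⟩)
    haveI : Subsingleton (H gs (Qf (f ^ 0) N) j) := subsingleton_of_forall_eq 0 fun c => by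
      rw [← one_smul A c, smul_H_eq_zero_of_annihilator gs (Module.mem_annihilator.2 fun _ => Subsingleton.elim _ _)]
    rw [Module.length_eq_zero]; exact bot_le
  | succ n ih =>
    let α : Qf (f ^ n) N →ₗ[A] Qf (f ^ (n + 1)) N := Submodule.mapQ _ _ (LinearMap.lsmul A N f) (by
      rintro _ ⟨m, rfl⟩
      exact ⟨m, by show f ^ (n + 1) • m = f • f ^ n • m; rw [smul_smul, pow_succ']⟩)
    let β : Qf (f ^ (n + 1)) N →ₗ[A] Qf f N := Submodule.factor (by
      rintro _ ⟨m, rfl⟩
      exact ⟨f ^ n • m, by show f • f ^ n • m = f ^ (n + 1) • m; rw [smul_smul, pow_succ']⟩)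
    refine (length_H_le_of_exact gs α β ?_ (Submodule.factor_surjective _) ?_ j).trans ?_
    · rw [injective_iff_map_eq_zero]
      intro z hz
      obtain ⟨w, rfl⟩ := Submodule.Quotient.mk_surjective _ z
      obtain ⟨m, hm⟩ := (Submodule.Quotient.mk_eq_zero _).mp hz
      refine (Submodule.Quotient.mk_eq_zero _).mpr ⟨m, hf ?_⟩
      show f • f ^ n • m = f • w
      rw [smul_smul, ← pow_succ']
      exact hm
    · intro z
      obtain ⟨w, rfl⟩ := Submodule.Quotient.mk_surjective _ z
      constructor
      · intro hz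
        obtain ⟨m, hm⟩ := (Submodule.Quotient.mk_eq_zero _).mp hz
        exact ⟨Submodule.Quotient.mk m, congrArg Submodule.Quotient.mk hm⟩
      · rintro ⟨v, hv⟩
        obtain ⟨m, rfl⟩ := Submodule.Quotient.mk_surjective _ v
        rw [← hv]
        exact (Submodule.Quotient.mk_eq_zero _).mpr ⟨m, rfl⟩
    · rw [Nat.cast_succ, add_mul, one_mul]
      exact add_le_add ih le_rfl

theorem length_H_pow_step (f : A) (gs : List A) (T : Submodule A M) (hreg : IsSMulRegular (M ⧸ T) f) (n : ℕ) (j : ℤ) :
    Module.length A (H (f ^ n :: gs) M j) ≤ Module.length A (H gs T j) + Module.length A (H gs T (j + 1)) +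
      n * Module.length A (H gs (Qf f (M ⧸ T)) j) := by
  refine (length_H_le_of_exact (f ^ n :: gs) T.subtype T.mkQ (Submodule.subtype_injective _) (Submodule.mkQ_surjective _)
    (LinearMap.exact_subtype_mkQ T) j).trans (add_le_add (length_H_cons_le _ _ _) ?_)
  rw [length_H_cons_regular _ gs (hreg.pow n)]
  exact length_H_quot_pow_le f hreg gs j n

theorem exists_bound (fs : List A) : ∀ (M : Type u) [AddCommGroup M] [Module A M] [Module.Finite A M], Good fs M →
    ∃ c : ℕ, ∀ n : ℕ, 0 < n → ∀ i : ℕ, i ≤ fs.length →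
      Module.length A (H (fs.map (· ^ n)) M (-(i : ℤ))) ≤ ((c * n ^ (fs.length - i) : ℕ) : ℕ∞) := by
  induction fs with
  | nil =>
    intro M _ _ _ h
    obtain ⟨c, hc⟩ := ENat.ne_top_iff_exists.mp (length_ne_top_of_forall M fun p hp hle => h p hp hle (by rw [Ideal.ofList_nil]; exact bot_le))
    refine ⟨c, fun n _ i hi => ?_⟩
    rw [show i = 0 from Nat.le_zero.mp hi]
    rw [List.map_nil, Nat.cast_zero, neg_zero, length_H_nil, ← hc]
    simp
  | cons f fs ih =>
    intro M _ _ _ h
    obtain ⟨T, a, ha, hreg⟩ := exists_torsion (M := M) f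
    obtain ⟨c₁, h₁⟩ := ih T ((h.of_injective T.subtype (Submodule.subtype_injective _)).of_pow ha)
    obtain ⟨c₂, h₂⟩ := ih _ (h.of_surjective T.mkQ (Submodule.mkQ_surjective _)).quot
    refine ⟨c₁ + c₁ + c₂, fun n hn i hi => ?_⟩
    rw [List.map_cons]
    refine (length_H_pow_step f _ T hreg n _).trans ?_
    simp only [List.length_cons] at hi ⊢
    have b₁ : Module.length A (H (fs.map (· ^ n)) T (-(i : ℤ))) ≤ ((c₁ * n ^ (fs.length + 1 - i) : ℕ) : ℕ∞) := by
      by_cases hik : i ≤ fs.length
      · exact (h₁ n hn i hik).trans (Nat.cast_le.mpr (Nat.mul_le_mul_left _ (Nat.pow_le_pow_right hn (by omega))))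
      · rw [length_H_eq_zero _ _ (Or.inr (by simp only [List.length_map]; omega))]
        exact bot_le
    have b₂ : Module.length A (H (fs.map (· ^ n)) T (-(i : ℤ) + 1)) ≤ ((c₁ * n ^ (fs.length + 1 - i) : ℕ) : ℕ∞) := by
      rcases i with _ | i
      · rw [length_H_eq_zero _ _ (Or.inl (by omega))]
        exact bot_le
      · rw [show (-((i + 1 : ℕ) : ℤ) + 1) = -(i : ℤ) by omega, show fs.length + 1 - (i + 1) = fs.length - i by omega]
        exact h₁ n hn i (by omega)
    have b₃ : (n : ℕ∞) * Module.length A (H (fs.map (· ^ n)) (Qf f (M ⧸ T)) (-(i : ℤ))) ≤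
        ((c₂ * n ^ (fs.length + 1 - i) : ℕ) : ℕ∞) := by
      by_cases hik : i ≤ fs.length
      · refine (mul_le_mul_right (h₂ n hn i hik) _).trans (le_of_eq ?_)
        rw [show fs.length + 1 - i = (fs.length - i) + 1 by omega, pow_succ]
        push_cast; ring
      · rw [length_H_eq_zero _ _ (Or.inr (by simp only [List.length_map]; omega)), mul_zero]
        exact bot_le
    refine (add_le_add (add_le_add b₁ b₂) b₃).trans (le_of_eq ?_)
    push_cast; ring

theorem exists_bound_dim [IsLocalRing A] (fs : List A) (hfs : ∀ f ∈ fs, f ∈ maximalIdeal A) :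
    ∀ (M : Type u) [AddCommGroup M] [Module A M] [Module.Finite A M], Good fs M → ∀ d : ℕ,
      Module.supportDim A M ≤ (d : WithBot ℕ∞) →
      ∃ c : ℕ, ∀ n : ℕ, 0 < n → ∀ j : ℤ,
        Module.length A (H (fs.map (· ^ n)) M j) ≤ ((c * n ^ d : ℕ) : ℕ∞) := by
  induction fs with
  | nil =>
    intro M _ _ _ h d _
    obtain ⟨c, hc⟩ := ENat.ne_top_iff_exists.mp (length_ne_top_of_forall M fun p hp hle => h p hp hle (by rw [Ideal.ofList_nil]; exact bot_le))
    refine ⟨c, fun n hn j => ?_⟩
    by_cases hj : j = 0
    · subst hj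
      rw [List.map_nil, length_H_nil, ← hc]
      exact Nat.cast_le.mpr (Nat.le_mul_of_pos_right _ (Nat.pow_pos hn))
    · rw [length_H_eq_zero _ _ (by simp only [List.map_nil, List.length_nil]; omega)]
      exact bot_le
  | cons f fs ih =>
    intro M _ _ _ h d hd
    have hfs' : ∀ g ∈ fs, g ∈ maximalIdeal A := fun g hg => hfs g (List.mem_cons_of_mem _ hg)
    obtain ⟨T, a, ha, hreg⟩ := exists_torsion (M := M) f
    obtain ⟨c₁, h₁⟩ := ih hfs' T ((h.of_injective T.subtype (Submodule.subtype_injective _)).of_pow ha) d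
      ((Module.supportDim_le_of_injective T.subtype (Submodule.subtype_injective _)).trans hd)
    have hQ : ∃ c : ℕ, ∀ n : ℕ, 0 < n → ∀ j : ℤ, (n : ℕ∞) * Module.length A (H (fs.map (· ^ n)) (Qf f (M ⧸ T)) j) ≤
        ((c * n ^ d : ℕ) : ℕ∞) := by
      rcases subsingleton_or_nontrivial (Qf f (M ⧸ T)) with hQ | hQ
      · refine ⟨0, fun n _ j => ?_⟩
        haveI : Subsingleton (H (fs.map (· ^ n)) (Qf f (M ⧸ T)) j) := subsingleton_of_forall_eq 0 fun c => by
          rw [← one_smul A c, smul_H_eq_zero_of_annihilator _ (Module.mem_annihilator.2 fun _ => Subsingleton.elim _ _)]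
        rw [Module.length_eq_zero, mul_zero]
        exact bot_le
      have h1 := (Module.supportDim_le_of_surjective T.mkQ (Submodule.mkQ_surjective _)).trans hd
      rw [← supportDim_quot (hfs f List.mem_cons_self) hreg] at h1
      obtain ⟨e, he⟩ := WithBot.ne_bot_iff_exists.mp (Module.supportDim_ne_bot_of_nontrivial A (Qf f (M ⧸ T)))
      rw [← he] at h1
      have h1' : e + 1 ≤ (d : ℕ∞) := by exact_mod_cast h1
      obtain ⟨e', rfl⟩ := ENat.ne_top_iff_exists.mp (show e ≠ ⊤ from fun h => by simp [h] at h1')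
      have h1'' : e' + 1 ≤ d := by exact_mod_cast h1'
      obtain ⟨c, hc⟩ := ih hfs' _ (h.of_surjective T.mkQ (Submodule.mkQ_surjective _)).quot e' (he.symm.le)
      refine ⟨c, fun n hn j => (mul_le_mul_right (hc n hn j) _).trans ?_⟩
      rw [← Nat.cast_mul]
      refine Nat.cast_le.mpr ?_
      calc n * (c * n ^ e') = c * n ^ (e' + 1) := by ring
        _ ≤ c * n ^ d := Nat.mul_le_mul_left _ (Nat.pow_le_pow_right hn h1'')
    obtain ⟨c₂, h₂⟩ := hQ
    refine ⟨c₁ + c₁ + c₂, fun n hn j => ?_⟩
    rw [List.map_cons]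
    refine (length_H_pow_step f _ T hreg n _).trans ((add_le_add (add_le_add (h₁ n hn _) (h₁ n hn _)) (h₂ n hn _)).trans (le_of_eq ?_))
    push_cast; ring

end Bound

end Groth.L05.Kosz
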