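import Groth.Agent.L05.Kosz.Samuel
import Groth.Agent.L04.Koszul.Vanish
import Groth.Agent.L28.TorFacts
import Groth.Prelude.Def_IntMult
import Mathlib.Algebra.Homology.ShortComplex.ModuleCat
import Mathlib.RingTheory.Regular.RegularSequence

/-!
# Tor against the quotient by a regular sequence is Koszul homology
-/

set_option autoImplicit false
set_option linter.style.haveILetI false
set_option maxSynthPendingDepth 3

universe u

open CategoryTheory CategoryTheory.Limits MonoidalCategory HomologicalComplex CohIII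

namespace Groth.L05.Kosz

variable {A : Type u} [CommRing A]

/-- A cochain complex read in degrees `≤ 0` as a chain complex. -/
noncomputable def chainOf (L : CochainComplex (ModuleCat.{u} A) ℤ) : ChainComplex (ModuleCat.{u} A) ℕ :=
  ChainComplex.of (fun j : ℕ => L.X (-(j : ℤ))) (fun j : ℕ => L.d (-((j + 1 : ℕ) : ℤ)) (-(j : ℤ))) fun _ => L.d_comp_d _ _ _

theorem chainOf_d (L : CochainComplex (ModuleCat.{u} A) ℤ) (j : ℕ) :
    (chainOf L).d (j + 1) j = L.d (-((j + 1 : ℕ) : ℤ)) (-(j : ℤ)) :=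
  ChainComplex.of_d (fun j : ℕ => L.X (-(j : ℤ))) (fun j : ℕ => L.d (-((j + 1 : ℕ) : ℤ)) (-(j : ℤ))) j

theorem length_chainOf (L : CochainComplex (ModuleCat.{u} A) ℤ) (h : IsZero (L.X 1)) (i : ℕ) :
    Module.length A ((chainOf L).homology i) = Module.length A (L.homology (-(i : ℤ))) := by
  cases i with
  | zero =>
    let T : ShortComplex (ModuleCat.{u} A) := (chainOf L).sc' 1 0 0
    let S : ShortComplex (ModuleCat.{u} A) := L.sc' (-((1 : ℕ) : ℤ)) (-((0 : ℕ) : ℤ)) 1
    have hT : T.g = 0 := (chainOf L).shape 0 0 (by simp)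
    let φ : S ⟶ T :=
      { τ₁ := 𝟙 _, τ₂ := 𝟙 _, τ₃ := 0
        comm₁₂ := by
          show 𝟙 _ ≫ (chainOf L).d 1 0 = L.d _ _ ≫ 𝟙 _
          rw [Category.id_comp, Category.comp_id, chainOf_d]
        comm₂₃ := by rw [hT, comp_zero, comp_zero] }
    haveI : Epi φ.τ₁ := inferInstanceAs (Epi (𝟙 _))
    haveI : IsIso φ.τ₂ := inferInstanceAs (IsIso (𝟙 _))
    haveI : Mono φ.τ₃ := ⟨fun a b _ => h.eq_of_tgt a b⟩
    haveI := ShortComplex.quasiIso_of_epi_of_isIso_of_mono φ
    have e : L.homology (-((0 : ℕ) : ℤ)) ≅ (chainOf L).homology 0 :=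
      L.homologyIsoSc' (-((1 : ℕ) : ℤ)) (-((0 : ℕ) : ℤ)) 1 (by simp) (by simp) ≪≫
        asIso (ShortComplex.homologyMap φ) ≪≫
        ((chainOf L).homologyIsoSc' 1 0 0 ((ComplexShape.down ℕ).prev_eq' rfl) (by simp)).symm
    exact e.toLinearEquiv.length_eq.symm
  | succ j =>
    let φ : L.sc' (-((j + 2 : ℕ) : ℤ)) (-((j + 1 : ℕ) : ℤ)) (-(j : ℤ)) ≅ (chainOf L).sc' (j + 2) (j + 1) j :=
      ShortComplex.isoMk (Iso.refl _) (Iso.refl _) (Iso.refl _) (by
        show 𝟙 _ ≫ (chainOf L).d (j + 2) (j + 1) = L.d _ _ ≫ 𝟙 _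
        rw [chainOf_d]; exact (Category.id_comp _).trans (Category.comp_id _).symm) (by
        show 𝟙 _ ≫ (chainOf L).d (j + 1) j = L.d _ _ ≫ 𝟙 _
        rw [chainOf_d]; exact (Category.id_comp _).trans (Category.comp_id _).symm)
    have e : L.homology (-((j + 1 : ℕ) : ℤ)) ≅ (chainOf L).homology (j + 1) :=
      L.homologyIsoSc' (-((j + 2 : ℕ) : ℤ)) (-((j + 1 : ℕ) : ℤ)) (-(j : ℤ)) (by simp; omega) (by simp) ≪≫
        ShortComplex.homologyMapIso φ ≪≫
        ((chainOf L).homologyIsoSc' (j + 2) (j + 1) j ((ComplexShape.down ℕ).prev_eq' rfl)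
          ((ComplexShape.down ℕ).next_eq' rfl)).symm
    exact e.toLinearEquiv.length_eq.symm

theorem free_of_prodEquiv (P Q R : Type u) [AddCommGroup P] [Module A P] [AddCommGroup Q] [Module A Q]
    [AddCommGroup R] [Module A R] [Module.Free A P] [Module.Free A Q] (e : (P × Q) ≃ₗ[A] R) : Module.Free A R :=
  Module.Free.of_equiv e

theorem free_X : ∀ (fs : List A) (n : ℤ), Module.Free A ((koszulCx (ModuleCat.of A A) fs).X n) := by
  intro fs
  induction fs with
  | nil =>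
    intro n
    by_cases hn : n = 0
    · subst hn
      exact Module.Free.of_equiv
        (HomologicalComplex.singleObjXSelf (ComplexShape.up ℤ) (0 : ℤ) (ModuleCat.of A A)).toLinearEquiv.symm
    · haveI : Subsingleton ((koszulCx (ModuleCat.of A A) ([] : List A)).X n) :=
        ModuleCat.isZero_iff_subsingleton.1 (HomologicalComplex.isZero_single_obj_X _ _ _ _ hn)
      infer_instance
  | cons f fs ih =>
    intro n
    obtain ⟨e⟩ := exists_consEquiv A f fs n (n + 1) rfl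
    exact @free_of_prodEquiv A _ _ _ _ _ _ _ _ _ _ (ih (n + 1)) (ih n) e

/-- `Tor_i(A/(fs), M)` has the length of `H^{-i}(fs, M)` when `fs` is weakly regular. -/
theorem length_tor_koszul (M : Type u) [AddCommGroup M] [Module A M] (fs : List A)
    (hreg : RingTheory.Sequence.IsWeaklyRegular A fs) (i : ℕ) :
    Module.length A (DRing.Tor A i (A ⧸ Ideal.ofList fs) M) = Module.length A (H fs M (-(i : ℤ))) := by
  let K := koszulCx (ModuleCat.of A A) fs
  have h1 : IsZero (K.X 1) := Groth.L04.Koszul.isZero_X (ModuleCat.of A A) fs 1 (Or.inl one_pos)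
  let e : K.homology (-((0 : ℕ) : ℤ)) ≅ ModuleCat.of A (A ⧸ Ideal.ofList fs) :=
    eqToIso (congrArg (fun n : ℤ => K.homology n) (by simp)) ≪≫ (Groth.L04.Koszul.topEquiv (ModuleCat.of A A) fs).symm.toModuleIso ≪≫
      (Submodule.quotEquivOfEq (Ideal.ofList fs • (⊤ : Submodule A A)) (Ideal.ofList fs)
        (by rw [smul_eq_mul, Ideal.mul_top])).toModuleIso
  have hz : K.d (-((0 : ℕ) : ℤ)) 1 = 0 := h1.eq_of_tgt _ _
  let lift0 : K.X (-((0 : ℕ) : ℤ)) ⟶ K.cycles (-((0 : ℕ) : ℤ)) :=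
    K.liftCycles (𝟙 _) 1 (by simp) (by rw [Category.id_comp]; exact hz)
  let ε : (chainOf K).X 0 ⟶ ModuleCat.of A (A ⧸ Ideal.ofList fs) :=
    lift0 ≫ K.homologyπ (-((0 : ℕ) : ℤ)) ≫ e.hom
  have hε : ∀ x, ε x = e.hom (K.homologyπ (-((0 : ℕ) : ℤ)) (lift0 x)) := fun x => rfl
  have hlift : ∀ x, K.iCycles (-((0 : ℕ) : ℤ)) (lift0 x) = x := fun x => by
    have h := K.liftCycles_i (𝟙 (K.X (-((0 : ℕ) : ℤ)))) 1 (by simp) (by rw [Category.id_comp]; exact hz)
    exact congrArg (fun g => g x) h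
  have hP : Groth.L28.Balance.IsRes (chainOf K) ε := by
    refine ⟨fun y => ?_, ?_, fun n => ?_, fun n => by haveI := free_X fs (-(n : ℤ)); exact (Module.Flat.of_free : Module.Flat A (K.X (-(n : ℤ))))⟩
    · obtain ⟨z, hz'⟩ := Groth.L28.HomElt.exists_cycle_π (K := K) (e.inv y : K.homology (-((0 : ℕ) : ℤ)))
      refine ⟨K.iCycles _ z, ?_⟩
      rw [hε, Groth.L28.HomElt.iCycles_injective K _ (hlift (K.iCycles _ z)), hz']
      exact e.toLinearEquiv.apply_symm_apply y
    · intro x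
      rw [chainOf_d]
      show e.toLinearEquiv (K.homologyπ (-((0 : ℕ) : ℤ)) (lift0 x)) = 0 ↔ _
      rw [e.toLinearEquiv.map_eq_zero_iff, Groth.L28.HomElt.π_eq_zero_iff (i := -((1 : ℕ) : ℤ)) (by simp) (lift0 x)]
      simp only [hlift]
      exact Iff.rfl
    · rw [chainOf_d, chainOf_d]
      have hH : IsZero (K.homology (-((n + 1 : ℕ) : ℤ))) :=
        Groth.L04.Koszul.isZero_of_isWeaklyRegular fs (ModuleCat.of A A) hreg _ (by omega)
      intro x
      refine ⟨(Groth.L28.HomElt.exactAt_iff (i := -((n + 2 : ℕ) : ℤ)) (k := -(n : ℤ)) (by simp; omega) (by simp)).mp ((K.exactAt_iff_isZero_homology _).mpr hH) x, ?_⟩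
      rintro ⟨y, rfl⟩
      exact congrArg (fun g => g y) (K.d_comp_d (-((n + 2 : ℕ) : ℤ)) (-((n + 1 : ℕ) : ℤ)) (-(n : ℤ)))
  obtain ⟨e₁⟩ := Groth.L28.TorFacts.nonempty_iso_left (N := ModuleCat.of A M) (chainOf K) ε hP i
  let L := ((tensorRight (ModuleCat.of A M)).mapHomologicalComplex (ComplexShape.up ℤ)).obj K
  have hL1 : IsZero (L.X 1) := (tensorRight (ModuleCat.of A M)).map_isZero h1
  let e₂ : ((tensorRight (ModuleCat.of A M)).mapHomologicalComplex (ComplexShape.down ℕ)).obj (chainOf K) ≅ chainOf L :=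
    HomologicalComplex.Hom.isoOfComponents (fun j => Iso.refl _) (by
      rintro _ j (rfl : j + 1 = _)
      show 𝟙 _ ≫ (chainOf L).d (j + 1) j = (tensorRight (ModuleCat.of A M)).map ((chainOf K).d (j + 1) j) ≫ 𝟙 _
      rw [Category.id_comp, Category.comp_id, chainOf_d, chainOf_d]
      rfl)
  have h2 := (e₁ ≪≫ (HomologicalComplex.homologyFunctor _ _ i).mapIso e₂).toLinearEquiv.length_eq
  refine (h2.trans (length_chainOf L hL1 i)).trans ?_
  have hk := Groth.L04.Koszul.koszul_eq (A := A) fs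
  show Module.length A ((((tensorRight (ModuleCat.of A M)).mapHomologicalComplex (ComplexShape.up ℤ)).obj
    (koszulCx (ModuleCat.of A A) fs)).homology _) = _
  rw [← hk]
  exact length_tensor M fs _

end Groth.L05.Kosz
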