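import Groth.Agent.L04.Koszul.Basic
import Groth.Agent.L04.Koszul.Vanish
import Groth.Prelude.Def_Koszul
import Groth.Prelude.Def_DRing2
import Mathlib.RingTheory.Length
import Mathlib.RingTheory.Support
import Mathlib.RingTheory.Ideal.AssociatedPrime.Finiteness
import Mathlib.RingTheory.Noetherian.Basic
import Mathlib.Tactic.LinearCombination

/-!
# Euler characteristics of Koszul complexes: long exact sequences and lengths
-/

set_option autoImplicit false
set_option linter.style.haveILetI false
set_option backward.isDefEq.respectTransparency.types false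

universe u

open CategoryTheory CategoryTheory.Limits MonoidalCategory CochainComplex CohIII

namespace Groth.L05.Kosz

open Groth.L04.Koszul
open Groth.L28.Kun (Z cl cl_surjective cl_eq_zero_iff homologyMap_cl)

variable {A : Type u} [CommRing A]

section Bridge

variable (M : ModuleCat.{u} A)

/-- Isomorphic endomorphisms have isomorphic cones. -/
noncomputable def coneIso {K L : CochainComplex (ModuleCat.{u} A) ℤ} (e : K ≅ L) (φ : K ⟶ K) (ψ : L ⟶ L)
    (h : φ ≫ e.hom = e.hom ≫ ψ) : mappingCone φ ≅ mappingCone ψ where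
  hom := mappingCone.map φ ψ e.hom e.hom h
  inv := mappingCone.map ψ φ e.inv e.inv (by rw [Iso.eq_inv_comp, ← Category.assoc, ← h, Category.assoc, Iso.hom_inv_id, Category.comp_id])
  hom_inv_id := by
    rw [← mappingCone.map_comp]
    simp only [Iso.hom_inv_id, mappingCone.map_id]
  inv_hom_id := by
    rw [← mappingCone.map_comp]
    simp only [Iso.inv_hom_id, mappingCone.map_id]

theorem map_smul_id (K : CochainComplex (ModuleCat.{u} A) ℤ) (f : A) :
    ((tensorRight M).mapHomologicalComplex (ComplexShape.up ℤ)).map (f • 𝟙 K) =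
      f • 𝟙 (((tensorRight M).mapHomologicalComplex (ComplexShape.up ℤ)).obj K) := by
  ext i
  simp

/-- The Koszul complex with coefficients. -/
noncomputable def tensorIso : ∀ l : List A, DRing.tensorCx (_root_.Koszul.koszul A l) M ≅ koszulCx M l
  | [] => (HomologicalComplex.singleMapHomologicalComplex (tensorRight M) (ComplexShape.up ℤ) 0).app (ModuleCat.of A A) ≪≫
      (HomologicalComplex.single (ModuleCat.{u} A) (ComplexShape.up ℤ) 0).mapIso (λ_ M)
  | f :: l => mappingCone.mapHomologicalComplexIso (f • 𝟙 (_root_.Koszul.koszul A l)) (tensorRight M) ≪≫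
      coneIso (tensorIso l) (((tensorRight M).mapHomologicalComplex (ComplexShape.up ℤ)).map (f • 𝟙 (_root_.Koszul.koszul A l)))
        (stepHom M f l) (by
        refine ((congrArg (· ≫ (tensorIso l).hom) (map_smul_id M _ f)).trans (Linear.smul_comp _ _ _ _ _ _)).trans ?_
        refine Eq.trans ?_ (Linear.comp_smul (R := A) _ _ _ (tensorIso l).hom f (𝟙 (koszulCx M l))).symm
        exact congrArg (f • ·) ((Category.id_comp _).trans (Category.comp_id _).symm))

theorem length_tensor (M : Type u) [AddCommGroup M] [Module A M] (l : List A) (n : ℤ) :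
    Module.length A ((DRing.tensorCx (_root_.Koszul.koszul A l) (ModuleCat.of A M)).homology n) =
      Module.length A ((koszulCx (ModuleCat.of A M) l).homology n) :=
  (((HomologicalComplex.homologyFunctor _ _ n).mapIso (tensorIso (ModuleCat.of A M) l)).toLinearEquiv).length_eq

end Bridge

variable {M N P : Type u} [AddCommGroup M] [Module A M] [AddCommGroup N] [Module A N] [AddCommGroup P] [Module A P]

/-- Koszul cohomology, in cohomological degrees `-r, …, 0`. -/
abbrev H (fs : List A) (M : Type u) [AddCommGroup M] [Module A M] (n : ℤ) : Type u :=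
  (koszulCx (ModuleCat.of A M) fs).homology n

/-- The map induced by a linear map. -/
noncomputable def Hmap (fs : List A) (g : M →ₗ[A] N) (n : ℤ) : H fs M n →ₗ[A] H fs N n :=
  (HomologicalComplex.homologyMap (kmap (ModuleCat.ofHom g) fs) n).hom

theorem Hmap_lsmul (fs : List A) (a : A) (n : ℤ) (c : H fs M n) : Hmap fs (LinearMap.lsmul A M a) n c = a • c := by
  have h : ModuleCat.ofHom (LinearMap.lsmul A M a) = a • 𝟙 (ModuleCat.of A M) := by ext; rfl
  refine Eq.trans ?_ (homologyMap_smul_id (koszulCx (ModuleCat.of A M) fs) a n c)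
  rw [Hmap, h, kmap_smul_id]

/-- The long exact sequence of a short exact sequence of modules. -/
theorem exists_les (fs : List A) (f : M →ₗ[A] N) (g : N →ₗ[A] P) (hf : Function.Injective f)
    (hg : Function.Surjective g) (hfg : Function.Exact f g) :
    ∃ δ : ∀ n : ℤ, H fs P n →ₗ[A] H fs M (n + 1),
      ∀ n, Function.Exact (Hmap fs f n) (Hmap fs g n) ∧ Function.Exact (Hmap fs g n) (δ n) ∧
        Function.Exact (δ n) (Hmap fs f (n + 1)) := by
  let S : ShortComplex (ModuleCat.{u} A) := ShortComplex.mk (ModuleCat.ofHom f) (ModuleCat.ofHom g) (by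
    ext x; exact hfg.apply_apply_eq_zero x)
  have hS : S.ShortExact := {
    exact := (ShortComplex.ShortExact.moduleCat_exact_iff_function_exact S).2 hfg
    mono_f := (ModuleCat.mono_iff_injective _).2 hf
    epi_g := (ModuleCat.epi_iff_surjective _).2 hg }
  have hK := kSeq_shortExact hS fs
  refine ⟨fun n => (hK.δ n (n + 1) (by simp)).hom, fun n => ⟨?_, ?_, ?_⟩⟩
  · exact (ShortComplex.ShortExact.moduleCat_exact_iff_function_exact _).1 (hK.homology_exact₂ n)
  · exact (ShortComplex.ShortExact.moduleCat_exact_iff_function_exact _).1 (hK.homology_exact₃ n (n + 1) (by simp))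
  · exact (ShortComplex.ShortExact.moduleCat_exact_iff_function_exact _).1 (hK.homology_exact₁ n (n + 1) (by simp))

theorem subsingleton_H (fs : List A) (n : ℤ) (hn : 0 < n ∨ n + fs.length < 0) : Subsingleton (H fs M n) :=
  subsingleton_homology_of_out _ fs n hn

theorem length_H_eq_zero (fs : List A) (n : ℤ) (hn : 0 < n ∨ n + fs.length < 0) : Module.length A (H fs M n) = 0 := by
  haveI := subsingleton_H (M := M) fs n hn
  exact Module.length_eq_zero

theorem length_middle {X Y W : Type u} [AddCommGroup X] [Module A X] [AddCommGroup Y] [Module A Y]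
    [AddCommGroup W] [Module A W] (a : X →ₗ[A] Y) (b : Y →ₗ[A] W) (h : Function.Exact a b) :
    Module.length A Y = Module.length A (LinearMap.range a) + Module.length A (LinearMap.range b) :=
  Module.length_eq_add_of_exact (LinearMap.range a).subtype b.rangeRestrict
    (Submodule.subtype_injective _) b.surjective_rangeRestrict (by
      rw [LinearMap.exact_iff, LinearMap.ker_rangeRestrict, Submodule.range_subtype]
      exact LinearMap.exact_iff.1 h)

/-- The length of the middle of `X →f→ X → Y → W →f→ W`. -/
theorem length_of_smul_sequence (f : A) {X Y W : Type u} [AddCommGroup X] [Module A X] [AddCommGroup Y] [Module A Y]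
    [AddCommGroup W] [Module A W] (a : X →ₗ[A] Y) (b : Y →ₗ[A] W) (h₁ : ∀ x, a x = 0 ↔ ∃ x', f • x' = x)
    (h₂ : Function.Exact a b) (h₃ : ∀ w, f • w = 0 ↔ ∃ y, b y = w) :
    Module.length A Y = Module.length A (X ⧸ LinearMap.range (LinearMap.lsmul A X f)) +
      Module.length A (LinearMap.ker (LinearMap.lsmul A W f)) := by
  have e₁ : LinearMap.ker a = LinearMap.range (LinearMap.lsmul A X f) := by
    ext x; exact h₁ x
  have e₂ : LinearMap.range b = LinearMap.ker (LinearMap.lsmul A W f) := by
    ext w; exact (h₃ w).symm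
  rw [length_middle a b h₂, e₂, ← a.quotKerEquivRange.length_eq, (Submodule.quotEquivOfEq _ _ e₁).length_eq]

/-- cokernel part -/
noncomputable def cLen (f : A) (fs : List A) (M : Type u) [AddCommGroup M] [Module A M] (n : ℤ) : ℕ∞ :=
  Module.length A (H fs M n ⧸ LinearMap.range (LinearMap.lsmul A (H fs M n) f))

/-- kernel part -/
noncomputable def kLen (f : A) (fs : List A) (M : Type u) [AddCommGroup M] [Module A M] (n : ℤ) : ℕ∞ :=
  Module.length A (LinearMap.ker (LinearMap.lsmul A (H fs M n) f))

theorem length_H_cons (f : A) (fs : List A) (n : ℤ) :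
    Module.length A (H (f :: fs) M n) = cLen f fs M n + kLen f fs M (n + 1) := by
  let K := koszulCx (ModuleCat.of A M) fs
  let φ := stepHom (ModuleCat.of A M) f fs
  refine length_of_smul_sequence f (HomologicalComplex.homologyMap (mappingCone.inr φ) n).hom
    (deltaC φ n (n + 1) rfl) (fun x => (exact_map_inr φ n x).trans ⟨?_, ?_⟩)
    (exact_inr_deltaC φ n (n + 1) rfl) (fun w => Iff.trans ?_ (exact_deltaC_map φ n (n + 1) rfl w))
  · rintro ⟨y, hy⟩
    exact ⟨y, (homologyMap_smul_id K f n y).symm.trans hy⟩
  · rintro ⟨y, hy⟩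
    exact ⟨y, (homologyMap_smul_id K f n y).trans hy⟩
  · exact ⟨fun h => (homologyMap_smul_id K f (n + 1) w).trans h, fun h => (homologyMap_smul_id K f (n + 1) w).symm.trans h⟩

theorem length_H_quot_regular (f : A) (fs : List A) (hf : IsSMulRegular M f) (n : ℤ) :
    Module.length A (H fs (M ⧸ LinearMap.range (LinearMap.lsmul A M f)) n) = cLen f fs M n + kLen f fs M (n + 1) := by
  obtain ⟨δ, hδ⟩ := exists_les fs (LinearMap.lsmul A M f) (LinearMap.range (LinearMap.lsmul A M f)).mkQ hf
    (Submodule.mkQ_surjective _) (LinearMap.exact_map_mkQ_range _)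
  refine length_of_smul_sequence f (Hmap fs _ n) (δ n) (fun x => ((hδ n).1 x).trans ⟨?_, ?_⟩) (hδ n).2.1
    (fun w => Iff.trans ?_ ((hδ n).2.2 w))
  · rintro ⟨y, hy⟩
    exact ⟨y, (Hmap_lsmul fs f n y).symm.trans hy⟩
  · rintro ⟨y, hy⟩
    exact ⟨y, (Hmap_lsmul fs f n y).trans hy⟩
  · rw [Hmap_lsmul]

/-- If `f` is regular on `M`, the Koszul cohomology of `f :: fs` on `M` is that of `fs` on `M/fM`. -/
theorem length_H_cons_regular (f : A) (fs : List A) (hf : IsSMulRegular M f) (n : ℤ) :
    Module.length A (H (f :: fs) M n) =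
      Module.length A (H fs (M ⧸ LinearMap.range (LinearMap.lsmul A M f)) n) := by
  rw [length_H_cons, length_H_quot_regular f fs hf]

theorem length_H_le_of_exact (fs : List A) (f : M →ₗ[A] N) (g : N →ₗ[A] P) (hf : Function.Injective f)
    (hg : Function.Surjective g) (hfg : Function.Exact f g) (n : ℤ) :
    Module.length A (H fs N n) ≤ Module.length A (H fs M n) + Module.length A (H fs P n) := by
  obtain ⟨δ, hδ⟩ := exists_les fs f g hf hg hfg
  rw [length_middle _ _ (hδ n).1]
  exact add_le_add (Module.length_le_of_surjective _ (LinearMap.surjective_rangeRestrict _))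
    (Module.length_le_of_injective (LinearMap.range (Hmap fs g n)).subtype Subtype.val_injective)

theorem length_H_cons_le (f : A) (fs : List A) (n : ℤ) :
    Module.length A (H (f :: fs) M n) ≤ Module.length A (H fs M n) + Module.length A (H fs M (n + 1)) := by
  rw [length_H_cons]
  exact add_le_add (Module.length_le_of_surjective _ (Submodule.mkQ_surjective _))
    (Module.length_le_of_injective (LinearMap.ker (LinearMap.lsmul A (H fs M (n + 1)) f)).subtype Subtype.val_injective)

theorem kmap_zero {M N : ModuleCat.{u} A} : ∀ fs : List A, kmap (0 : M ⟶ N) fs = 0 := by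
  intro fs
  have h : (0 : M ⟶ N) = ((0 : A) • 𝟙 M) ≫ (0 : M ⟶ N) := by simp
  ext n x
  induction fs generalizing n with
  | nil =>
    by_cases hn : n = 0
    · exact (single_X_eq (M := N) n hn).1 ((kmap_nil_apply (0 : M ⟶ N) n hn x).trans (map_zero _).symm)
    · exact (ModuleCat.isZero_iff_subsingleton.1 (isZero_X N [] n
        (by simp only [List.length_nil]; omega))).elim _ _
  | cons f fs ih =>
    obtain ⟨p, y, rfl⟩ := exists_cmk_cons M n (n + 1) rfl x
    refine (kmap_cmk (0 : M ⟶ N) f fs rfl p y).trans ?_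
    rw [ih, ih]
    exact (cmk_zero _ rfl).trans rfl

theorem smul_H_eq_zero_of_annihilator (fs : List A) {a : A} (ha : a ∈ Module.annihilator A M) (n : ℤ)
    (c : H fs M n) : a • c = 0 := by
  have h : LinearMap.lsmul A M a = 0 := LinearMap.ext fun m => Module.mem_annihilator.mp ha m
  rw [← Hmap_lsmul fs a n c, h, Hmap, show ModuleCat.ofHom (0 : M →ₗ[A] M) = 0 from rfl, kmap_zero,
    HomologicalComplex.homologyMap_zero]
  rfl

theorem finite_X [Module.Finite A M] : ∀ (fs : List A) (n : ℤ),
    Module.Finite A ((koszulCx (ModuleCat.of A M) fs).X n) := by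
  intro fs
  induction fs with
  | nil =>
    intro n
    by_cases hn : n = 0
    · exact Module.Finite.equiv
        (HomologicalComplex.singleObjXIsoOfEq (ComplexShape.up ℤ) (0 : ℤ) (ModuleCat.of A M) n hn).toLinearEquiv.symm
    · haveI := ModuleCat.isZero_iff_subsingleton.1 (isZero_X (ModuleCat.of A M) [] n
        (by simp only [List.length_nil]; omega))
      infer_instance
  | cons f fs ih =>
    intro n
    haveI := ih n
    haveI := ih (n + 1)
    let g : ((koszulCx (ModuleCat.of A M) fs).X (n + 1) × (koszulCx (ModuleCat.of A M) fs).X n) →ₗ[A]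
        (koszulCx (ModuleCat.of A M) (f :: fs)).X n :=
      { toFun := fun z => cmk (stepHom (ModuleCat.of A M) f fs) n (n + 1) rfl z.1 z.2
        map_add' := fun z w => cmk_add _ rfl _ _ _ _
        map_smul' := fun a z => (smul_cmk _ rfl a z.1 z.2).symm }
    exact Module.Finite.of_surjective g fun z => by
      obtain ⟨p, x, rfl⟩ := exists_cmk_cons (ModuleCat.of A M) n (n + 1) rfl z
      exact ⟨(p, x), rfl⟩

theorem finite_H [IsNoetherianRing A] [Module.Finite A M] (fs : List A) (n : ℤ) : Module.Finite A (H fs M n) := by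
  haveI := finite_X (M := M) fs n
  exact Module.Finite.of_surjective (cl (koszulCx (ModuleCat.of A M) fs) n) (cl_surjective _ n)

section Good

/-- Every prime over `ann M + (fs)` is maximal. -/
def Good (fs : List A) (M : Type u) [AddCommGroup M] [Module A M] : Prop :=
  ∀ p : Ideal A, p.IsPrime → Module.annihilator A M ≤ p → Ideal.ofList fs ≤ p → p.IsMaximal

theorem Good.of_injective {fs : List A} (h : Good fs N) (f : M →ₗ[A] N) (hf : Function.Injective f) :
    Good fs M := fun p hp h₁ h₂ => h p hp ((LinearMap.annihilator_le_of_injective f hf).trans h₁) h₂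

theorem Good.of_surjective {fs : List A} (h : Good fs M) (f : M →ₗ[A] N) (hf : Function.Surjective f) :
    Good fs N := fun p hp h₁ h₂ => h p hp ((LinearMap.annihilator_le_of_surjective f hf).trans h₁) h₂

theorem Good.of_pow {f : A} {fs : List A} (h : Good (f :: fs) M) {a : ℕ} (hM : f ^ a ∈ Module.annihilator A M) :
    Good fs M := fun p hp h₁ h₂ => h p hp h₁ (by
  rw [Ideal.ofList_cons, sup_le_iff, Ideal.span_singleton_le_iff_mem]
  exact ⟨hp.mem_of_pow_mem a (h₁ hM), h₂⟩)

theorem Good.quot {f : A} {fs : List A} (h : Good (f :: fs) M) :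
    Good fs (M ⧸ LinearMap.range (LinearMap.lsmul A M f)) := by
  refine (h.of_surjective _ (Submodule.mkQ_surjective _)).of_pow (a := 1) ?_
  rw [pow_one, Module.mem_annihilator]
  intro m
  obtain ⟨m, rfl⟩ := Submodule.Quotient.mk_surjective _ m
  rw [← Submodule.Quotient.mk_smul, Submodule.Quotient.mk_eq_zero]
  exact ⟨m, rfl⟩

theorem isMaximal_of_length_ne_top [IsNoetherianRing A] {X : Type u} [AddCommGroup X] [Module A X]
    [Module.Finite A X] (h : Module.length A X ≠ ⊤) (p : Ideal A) (hp : p.IsPrime)
    (hle : Module.annihilator A X ≤ p) : p.IsMaximal := by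
  haveI := (isFiniteLength_iff_isNoetherian_isArtinian.1 (Module.length_ne_top_iff.1 h)).2
  obtain ⟨k, s, hs⟩ := Module.Finite.exists_fin (R := A) (M := X)
  let g : A →ₗ[A] (Fin k → X) := LinearMap.pi fun i => LinearMap.toSpanSingleton A X (s i)
  have hg : LinearMap.ker g ≤ p := fun a ha => hle (by
    rw [Module.mem_annihilator]
    intro x
    have hx : x ∈ Submodule.span A (Set.range s) := hs ▸ Submodule.mem_top
    induction hx using Submodule.span_induction with
    | mem y hy => obtain ⟨i, rfl⟩ := hy; exact congrFun ha i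
    | zero => exact smul_zero _
    | add y z _ _ hy hz => rw [smul_add, hy, hz, add_zero]
    | smul b y _ hy => rw [smul_comm, hy, smul_zero])
  haveI : IsArtinian A (A ⧸ LinearMap.ker g) :=
    isArtinian_of_linearEquiv g.quotKerEquivRange.symm
  haveI : IsArtinian A (A ⧸ p) :=
    isArtinian_of_surjective _ (Submodule.factor hg) (Submodule.factor_surjective hg)
  haveI : IsArtinianRing (A ⧸ p) := isArtinian_of_tower A this
  exact Ideal.Quotient.maximal_of_isField _ (IsArtinianRing.isField_of_isDomain _)

theorem length_ne_top_of_forall [IsNoetherianRing A] (X : Type u) [AddCommGroup X] [Module A X] [hX : Module.Finite A X]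
    (h : ∀ p : Ideal A, p.IsPrime → Module.annihilator A X ≤ p → p.IsMaximal) : Module.length A X ≠ ⊤ := by
  revert h
  induction hX using IsNoetherianRing.induction_on_isQuotientEquivQuotientPrime A with
  | subsingleton N => intro _; simp
  | quotient N p e =>
    intro h
    haveI : p.asIdeal.IsMaximal := h p.asIdeal p.2 (by
      rw [e.annihilator_eq, Ideal.annihilator_quotient])
    haveI : IsSimpleModule A (A ⧸ p.asIdeal) :=
      isSimpleModule_iff_quot_maximal.2 ⟨p.asIdeal, inferInstance, ⟨LinearEquiv.refl _ _⟩⟩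
    rw [e.length_eq, Module.length_eq_one A (A ⧸ p.asIdeal)]
    simp
  | exact N₁ N₂ N₃ f g hf hg hfg h₁ h₃ =>
    intro h
    rw [Module.length_eq_add_of_exact f g hf hg hfg]
    simp [h₁ fun p hp hle => h p hp ((LinearMap.annihilator_le_of_injective f hf).trans hle),
      h₃ fun p hp hle => h p hp ((LinearMap.annihilator_le_of_surjective g hg).trans hle)]

theorem length_H_ne_top [IsNoetherianRing A] [Module.Finite A M] {fs : List A} (h : Good fs M) (n : ℤ) :
    Module.length A (H fs M n) ≠ ⊤ := by
  haveI := finite_H (M := M) fs n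
  refine length_ne_top_of_forall _ fun p hp hle => h p hp (fun a ha => hle ?_) (fun a ha => hle ?_)
  · exact Module.mem_annihilator.mpr fun c => smul_H_eq_zero_of_annihilator fs ha n c
  · exact Module.mem_annihilator.mpr fun c => smul_homology_eq_zero _ ha n c

theorem good_of_length_ne_top [IsNoetherianRing A] [Module.Finite A M] {fs : List A}
    (h : Module.length A (M ⧸ (Ideal.ofList fs • ⊤ : Submodule A M)) ≠ ⊤) : Good fs M := by
  intro p hp h₁ h₂
  refine isMaximal_of_length_ne_top h p hp ?_
  have hsupp : (⟨p, hp⟩ : PrimeSpectrum A) ∈ Module.support A (M ⧸ (Ideal.ofList fs • ⊤ : Submodule A M)) := by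
    rw [Module.support_quotient]
    exact ⟨by rw [Module.support_eq_zeroLocus]; exact h₁, h₂⟩
  rw [Module.support_eq_zeroLocus] at hsupp
  exact hsupp

theorem Good.length_ne_top [IsNoetherianRing A] [Module.Finite A M] {fs : List A} (h : Good fs M) :
    Module.length A (M ⧸ (Ideal.ofList fs • ⊤ : Submodule A M)) ≠ ⊤ := by
  rw [(topEquiv (ModuleCat.of A M) fs).length_eq]
  exact length_H_ne_top h 0

end Good

section Chi

/-- The Euler characteristic of the Koszul complex. -/
noncomputable def chi (fs : List A) (M : Type u) [AddCommGroup M] [Module A M] : ℤ :=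
  ∑ i ∈ Finset.range (fs.length + 1), (-1 : ℤ) ^ i * ((Module.length A (H fs M (-(i : ℤ)))).toNat : ℤ)

theorem negOnePow_neg_nat (i : ℕ) : (((-(i : ℤ)).negOnePow : ℤˣ) : ℤ) = (-1 : ℤ) ^ i := by
  rw [Int.negOnePow_neg, Int.negOnePow_def, zpow_natCast]
  simp

theorem finsum_eq_chi (fs : List A) (M : Type u) [AddCommGroup M] [Module A M] :
    (∑ᶠ i : ℤ, ((i.negOnePow : ℤˣ) : ℤ) *
      ((Module.length A ((DRing.tensorCx (_root_.Koszul.koszul A fs) (ModuleCat.of A M)).homology i)).toNat : ℤ)) =
      chi fs M := by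
  simp only [length_tensor]
  rw [finsum_eq_sum_of_support_subset _ (s := (Finset.range (fs.length + 1)).image fun i : ℕ => -(i : ℤ))]
  · rw [Finset.sum_image fun a _ b _ h => by simpa using h]
    refine Finset.sum_congr rfl fun i _ => ?_
    rw [negOnePow_neg_nat]
  · intro n hn
    simp only [Finset.coe_image, Finset.coe_range, Set.mem_image, Set.mem_Iio]
    have hn' : ¬ (0 < n ∨ n + fs.length < 0) := fun h => hn (by
      simp only [length_H_eq_zero (M := M) fs n h, ENat.toNat_zero, Nat.cast_zero, mul_zero])
    exact ⟨(-n).toNat, by omega, by omega⟩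

theorem telescope (r : ℕ → ℤ) (k : ℕ) :
    ∑ i ∈ Finset.range (k + 1), (-1 : ℤ) ^ i * (r (i + 1) + r i) = r 0 + (-1 : ℤ) ^ k * r (k + 1) := by
  induction k with
  | zero => simp [add_comm]
  | succ k ih =>
    rw [Finset.sum_range_succ, ih]
    ring

variable [IsNoetherianRing A] {fs : List A}

/-- natural number length -/
noncomputable def ln (X : Type u) [AddCommGroup X] [Module A X] : ℕ := (Module.length A X).toNat

theorem ln_middle {X Y W : Type u} [AddCommGroup X] [Module A X] [AddCommGroup Y] [Module A Y]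
    [AddCommGroup W] [Module A W] (a : X →ₗ[A] Y) (b : Y →ₗ[A] W) (h : Function.Exact a b)
    (hY : Module.length A Y ≠ ⊤) :
    ln (A := A) Y = ln (A := A) (LinearMap.range a) + ln (A := A) (LinearMap.range b) := by
  rw [length_middle a b h] at hY
  rw [ln, length_middle a b h, ENat.toNat_add (fun e => hY (by rw [e, top_add])) (fun e => hY (by rw [e, add_top]))]
  rfl

/-- The Euler characteristic is additive. -/
theorem chi_add (f : M →ₗ[A] N) (g : N →ₗ[A] P) (hf : Function.Injective f)
    (hg : Function.Surjective g) (hfg : Function.Exact f g) [Module.Finite A N] (h : Good fs N) :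
    chi fs N = chi fs M + chi fs P := by
  haveI : Module.Finite A M := Module.Finite.of_injective f hf
  haveI : Module.Finite A P := Module.Finite.of_surjective g hg
  have hM := h.of_injective f hf
  have hP := h.of_surjective g hg
  obtain ⟨δ, hδ⟩ := exists_les fs f g hf hg hfg
  let r : ℕ → ℤ := fun i =>
    (ln (A := A) (LinearMap.ker (Hmap fs f (-(i : ℤ) + 1))) : ℤ)
  have key : ∀ i : ℕ, (ln (A := A) (H fs M (-(i : ℤ))) : ℤ) + ln (A := A) (H fs P (-(i : ℤ))) =
      ln (A := A) (H fs N (-(i : ℤ))) + (r (i + 1) + r i) := by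
    intro i
    obtain ⟨h1, h2, h3⟩ := hδ (-(i : ℤ))
    have hN' := ln_middle _ _ h1 (length_H_ne_top h _)
    have hP' := ln_middle _ _ h2 (length_H_ne_top hP _)
    have hM' : ln (A := A) (H fs M (-(i : ℤ))) = ln (A := A) (LinearMap.ker (Hmap fs f (-(i : ℤ)))) +
        ln (A := A) (LinearMap.range (Hmap fs f (-(i : ℤ)))) := by
      have h' := Module.length_eq_add_of_exact (LinearMap.ker (Hmap fs f (-(i : ℤ)))).subtype
        (Hmap fs f (-(i : ℤ))).rangeRestrict (Submodule.subtype_injective _) (LinearMap.surjective_rangeRestrict _)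
        (by rw [LinearMap.exact_iff, LinearMap.ker_rangeRestrict, Submodule.range_subtype])
      have hne := length_H_ne_top hM (-(i : ℤ))
      rw [h'] at hne
      rw [ln, h', ENat.toNat_add (fun e => hne (by rw [e, top_add])) (fun e => hne (by rw [e, add_top]))]
      rfl
    have e3 : ln (A := A) (LinearMap.range (δ (-(i : ℤ)))) = ln (A := A) (LinearMap.ker (Hmap fs f (-(i : ℤ) + 1))) := by
      rw [LinearMap.exact_iff.1 h3]
    have er : r (i + 1) = ln (A := A) (LinearMap.ker (Hmap fs f (-(i : ℤ)))) := by
      show (ln (A := A) (LinearMap.ker (Hmap fs f (-((i + 1 : ℕ) : ℤ) + 1))) : ℤ) = _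
      rw [show (-((i + 1 : ℕ) : ℤ) + 1) = -(i : ℤ) by omega]
    simp only [r] at er ⊢
    rw [er]
    omega
  have hr : ∀ i : ℕ, i = 0 ∨ i = fs.length + 1 → r i = 0 := by
    intro i hi
    have : Subsingleton (LinearMap.ker (Hmap fs f (-(i : ℤ) + 1))) := by
      rcases hi with rfl | rfl
      · haveI := subsingleton_H (M := M) fs (-((0 : ℕ) : ℤ) + 1) (by omega)
        exact Function.Injective.subsingleton Subtype.val_injective
      · haveI := subsingleton_H (M := P) fs (-((fs.length + 1 : ℕ) : ℤ)) (by omega)
        refine ⟨fun a b => ?_⟩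
        have h0 : ∀ c : LinearMap.ker (Hmap fs f (-((fs.length + 1 : ℕ) : ℤ) + 1)), c.1 = 0 := fun c => by
          obtain ⟨z, hz⟩ := ((hδ _).2.2 c.1).1 c.2
          rw [← hz, Subsingleton.elim z 0, map_zero]
        exact Subtype.ext ((h0 a).trans (h0 b).symm)
    simp only [r, ln, Module.length_eq_zero, ENat.toNat_zero, Nat.cast_zero]
  have htel := telescope r fs.length
  rw [hr 0 (Or.inl rfl), hr _ (Or.inr rfl), mul_zero, add_zero] at htel
  rw [chi, chi, chi, ← Finset.sum_add_distrib]
  refine sub_eq_zero.1 ?_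
  rw [← Finset.sum_sub_distrib]
  rw [← neg_eq_zero, ← Finset.sum_neg_distrib]
  refine (Finset.sum_congr rfl fun i _ => ?_).trans htel
  have := key i
  simp only [ln] at this
  linear_combination (-1 : ℤ) ^ i * this

/-- If `M/(fs)M` already has finite length, adding an element kills the Euler characteristic. -/
theorem chi_cons_eq_zero (f : A) [Module.Finite A M] (h : Good fs M) : chi (f :: fs) M = 0 := by
  let r : ℕ → ℤ := fun i => ((kLen f fs M (-(i : ℤ) + 1)).toNat : ℤ)
  have key : ∀ i : ℕ, (-1 : ℤ) ^ i * ((Module.length A (H (f :: fs) M (-(i : ℤ)))).toNat : ℤ) =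
      (-1 : ℤ) ^ i * (r (i + 1) + r i) := by
    intro i
    congr 1
    let X := H fs M (-(i : ℤ))
    have hX : Module.length A X ≠ ⊤ := length_H_ne_top h _
    have h1 := Module.length_eq_add_of_exact (LinearMap.ker (LinearMap.lsmul A X f)).subtype
      (LinearMap.lsmul A X f).rangeRestrict (Submodule.subtype_injective _) (LinearMap.surjective_rangeRestrict _)
      (by rw [LinearMap.exact_iff, LinearMap.ker_rangeRestrict, Submodule.range_subtype])
    have h2 := Module.length_eq_add_of_exact (LinearMap.range (LinearMap.lsmul A X f)).subtype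
      (LinearMap.range (LinearMap.lsmul A X f)).mkQ (Submodule.subtype_injective _) (Submodule.mkQ_surjective _)
      (LinearMap.exact_subtype_mkQ _)
    rw [h1] at h2
    have hr : Module.length A (LinearMap.range (LinearMap.lsmul A X f)) ≠ ⊤ :=
      ne_top_of_le_ne_top hX (Module.length_le_of_injective _ (Submodule.subtype_injective _))
    have hk : kLen f fs M (-(i : ℤ)) = cLen f fs M (-(i : ℤ)) := by
      rw [add_comm] at h2
      exact WithTop.add_left_cancel hr h2
    have hk2 : kLen f fs M (-(i : ℤ) + 1) ≠ ⊤ := ne_top_of_le_ne_top (length_H_ne_top h _)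
      (Module.length_le_of_injective _ (Submodule.subtype_injective _))
    have hc : cLen f fs M (-(i : ℤ)) ≠ ⊤ := ne_top_of_le_ne_top hX
      (Module.length_le_of_surjective _ (Submodule.mkQ_surjective _))
    rw [length_H_cons, ENat.toNat_add hc hk2, Nat.cast_add]
    show _ = ((kLen f fs M (-((i + 1 : ℕ) : ℤ) + 1)).toNat : ℤ) + _
    rw [show (-((i + 1 : ℕ) : ℤ) + 1) = -(i : ℤ) by omega, hk]
  rw [chi, Finset.sum_congr rfl fun i _ => key i, telescope]
  have hr : ∀ n : ℤ, (0 < n ∨ n + fs.length < 0) → kLen f fs M n = 0 := fun n hn => by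
    haveI := subsingleton_H (M := M) fs n hn
    exact Module.length_eq_zero
  simp only [r, List.length_cons]
  rw [hr _ (by omega), hr _ (by omega)]
  simp

omit [IsNoetherianRing A] in
theorem chi_cons_regular (f : A) (hf : IsSMulRegular M f) :
    chi (f :: fs) M = chi fs (M ⧸ LinearMap.range (LinearMap.lsmul A M f)) := by
  rw [chi, chi, List.length_cons, Finset.sum_range_succ, length_H_cons_regular f fs hf,
    length_H_eq_zero fs _ (by omega)]
  simp only [ENat.toNat_zero, Nat.cast_zero, mul_zero, add_zero]
  exact Finset.sum_congr rfl fun i _ => by rw [length_H_cons_regular f fs hf]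

omit [IsNoetherianRing A] in
theorem chi_congr (e : M ≃ₗ[A] N) : chi fs M = chi fs N := by
  refine Finset.sum_congr rfl fun i _ => ?_
  have h : Function.Bijective (Hmap fs e.toLinearMap (-(i : ℤ))) := by
    obtain ⟨δ, hδ⟩ := exists_les fs e.toLinearMap (0 : N →ₗ[A] PUnit.{u + 1}) e.injective
      (fun _ => ⟨0, Subsingleton.elim _ _⟩) (fun y => ⟨fun _ => e.surjective y, fun _ => rfl⟩)
    haveI : ∀ n, Subsingleton (H fs PUnit.{u + 1} n) := fun n => subsingleton_of_forall_eq 0 fun c => by
      rw [← one_smul A c, smul_H_eq_zero_of_annihilator fs (Module.mem_annihilator.2 fun _ => Subsingleton.elim _ _)]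
    have hinj : ∀ n, Function.Injective (Hmap fs e.toLinearMap n) := by
      intro n
      obtain ⟨m, rfl⟩ : ∃ m, n = m + 1 := ⟨n - 1, by omega⟩
      refine (injective_iff_map_eq_zero _).2 fun c hc => ?_
      obtain ⟨z, hz⟩ := ((hδ m).2.2 c).1 hc
      rw [← hz, Subsingleton.elim z 0, map_zero]
    exact ⟨hinj _, fun y => ((hδ _).1 y).1 (Subsingleton.elim _ _)⟩
  rw [(LinearEquiv.ofBijective _ h).length_eq]

end Chi

end Groth.L05.Kosz
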